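import Mathlib
import Cfsg.Agent.Lib.Fusion.Transfer

/-!
# Groups with the order and spectrum of `PSL(2,q)`, `q` odd: tori

`Data G p q me mo` records what the order and the set of element orders of `PSL(2,q)` give:
`me` is the even one and `mo` the odd one of `(q-1)/2`, `(q+1)/2`.
-/

set_option autoImplicit false

namespace CfsgLib.PSLSpectrum

open Subgroup

/-- The numerical data. -/
structure Data (G : Type*) [Group G] (p q me mo : ℕ) : Prop where
  prime_p : p.Prime
  p_ne_two : p ≠ 2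
  q_pow : ∃ f : ℕ, 1 ≤ f ∧ q = p ^ f
  me_even : Even me
  mo_odd : Odd mo
  one_lt : 1 < mo
  cop : me.Coprime mo
  p_not_me : ¬ p ∣ me
  p_not_mo : ¬ p ∣ mo
  card : Nat.card G = q * mo * (2 * me)
  congO : q * (2 * me) ≡ 2 [MOD mo]
  congE : q * mo ≡ 1 [MOD me]
  orders : ∀ g : G, orderOf g ∣ p ∨ orderOf g ∣ me ∨ orderOf g ∣ mo
  exE : ∃ u : G, orderOf u = me
  exO : ∃ u : G, orderOf u = mo

variable {G : Type*} [Group G] [Finite G]

/-! ### Cyclic subgroups -/

theorem mem_zpowers_of_pow_eq_one {u x : G} {d : ℕ} (hd : d ∣ orderOf u) (hx : x ∈ zpowers u)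
    (hxd : x ^ d = 1) : x ∈ zpowers (u ^ (orderOf u / d)) := by
  obtain ⟨a, rfl⟩ := mem_zpowers_iff.1 hx
  obtain ⟨c, hc⟩ := hd
  have hd0 : 0 < d := by
    rcases Nat.eq_zero_or_pos d with h | h
    · rw [h, zero_mul] at hc
      exact absurd hc (orderOf_pos u).ne'
    · exact h
  rw [hc, Nat.mul_div_cancel_left _ hd0]
  rw [← zpow_natCast, ← zpow_mul, ← orderOf_dvd_iff_zpow_eq_one, hc, Nat.cast_mul,
    mul_comm (d : ℤ)] at hxd
  obtain ⟨b, hb⟩ := (mul_dvd_mul_iff_right (Int.natCast_ne_zero.2 hd0.ne')).1 hxd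
  exact mem_zpowers_iff.2 ⟨b, by rw [← zpow_natCast, ← zpow_mul, hb]⟩

theorem card_zpowers_div {u : G} {d : ℕ} (hd : d ∣ orderOf u) :
    Nat.card (zpowers (u ^ (orderOf u / d))) = d := by
  rw [Nat.card_zpowers, orderOf_pow_orderOf_div (orderOf_pos u).ne' hd]

/-- A subgroup of a cyclic group is determined by its order. -/
theorem eq_zpowers_of_le {u : G} {H : Subgroup G} (hH : H ≤ zpowers u) :
    H = zpowers (u ^ (orderOf u / Nat.card H)) := by
  have hd : Nat.card H ∣ orderOf u := Nat.card_zpowers u ▸ card_dvd_of_le hH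
  refine eq_of_le_of_card_ge (fun x hx => ?_) (card_zpowers_div hd).le
  have h1 : (⟨x, hx⟩ : H) ^ Nat.card H = 1 := pow_card_eq_one'
  exact mem_zpowers_of_pow_eq_one hd (hH hx) (congrArg Subtype.val h1)

theorem eq_of_le_zpowers {u : G} {H K : Subgroup G} (hH : H ≤ zpowers u) (hK : K ≤ zpowers u)
    (h : Nat.card H = Nat.card K) : H = K := by
  rw [eq_zpowers_of_le hH, eq_zpowers_of_le hK, h]

/-- Whoever normalizes a cyclic group normalizes each of its subgroups. -/
theorem normalizer_zpowers_le {u : G} {H : Subgroup G} (hH : H ≤ zpowers u) :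
    normalizer (zpowers u : Set G) ≤ normalizer (H : Set G) := by
  intro g hg
  have hmap : H.map (MulAut.conj g).toMonoidHom = H := by
    refine eq_of_le_zpowers (fun x hx => ?_) hH (card_map_of_injective (MulAut.conj g).injective)
    obtain ⟨y, hy, rfl⟩ := mem_map.1 hx
    exact (mem_normalizer_iff.1 hg y).1 (hH hy)
  rw [mem_normalizer_iff]
  intro x
  constructor
  · intro hx
    rw [← hmap]
    exact mem_map.2 ⟨x, hx, rfl⟩
  · intro hx
    rw [← hmap] at hx
    obtain ⟨y, hy, h⟩ := mem_map.1 hx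
    simp only [MulEquiv.toMonoidHom_eq_coe, MonoidHom.coe_coe, MulAut.conj_apply,
      mul_right_inj, mul_left_inj] at h
    exact h ▸ hy

theorem zpowers_le_centralizer {u y : G} (hy : y ∈ zpowers u) :
    zpowers u ≤ centralizer ({y} : Set G) := by
  rw [zpowers_le, mem_centralizer_singleton_iff]
  obtain ⟨a, rfl⟩ := mem_zpowers_iff.1 hy
  exact (Commute.refl u).zpow_right a

theorem zpowers_le_centralizer' {u : G} {H : Subgroup G} (hH : H ≤ zpowers u) :
    zpowers u ≤ centralizer (H : Set G) := fun x hx => by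
  rw [mem_centralizer_iff]
  intro y hy
  obtain ⟨a, rfl⟩ := mem_zpowers_iff.1 hx
  obtain ⟨b, rfl⟩ := mem_zpowers_iff.1 (hH hy)
  exact ((Commute.refl u).zpow_zpow b a)

theorem normalizer_le_normalizer_centralizer {y : G} :
    normalizer (zpowers y : Set G) ≤ normalizer (centralizer ({y} : Set G) : Set G) := by
  intro g hg
  rw [← centralizer_closure, ← zpowers_eq_closure]
  rw [mem_normalizer_iff]
  intro x
  simp only [mem_centralizer_iff, SetLike.mem_coe]
  constructor
  · intro hx z hz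
    have h' := hx (g⁻¹ * z * g) ((mem_normalizer_iff.1 hg _).2 (by simpa [mul_assoc] using hz))
    calc z * (g * x * g⁻¹) = g * ((g⁻¹ * z * g) * x) * g⁻¹ := by group
      _ = g * (x * (g⁻¹ * z * g)) * g⁻¹ := by rw [h']
      _ = g * x * g⁻¹ * z := by group
  · intro hx z hz
    have h' := hx (g * z * g⁻¹) ((mem_normalizer_iff.1 hg z).1 hz)
    calc z * x = g⁻¹ * ((g * z * g⁻¹) * (g * x * g⁻¹)) * g := by group
      _ = g⁻¹ * ((g * x * g⁻¹) * (g * z * g⁻¹)) * g := by rw [h']
      _ = x * z := by group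

/-! ### Sylow subgroups in cyclic tori -/

theorem exists_sylow_le {u : G} {k r : ℕ} [hr : Fact r.Prime]
    (hG : Nat.card G = k * orderOf u) (hrk : ¬ r ∣ k) :
    ∃ P : Sylow r G, (P : Subgroup G) ≤ zpowers u := by
  have hd : r ^ (orderOf u).factorization r ∣ orderOf u := Nat.ordProj_dvd _ _
  have hk0 : k ≠ 0 := fun h => hrk (h ▸ dvd_zero r)
  have hfac : (Nat.card G).factorization r = (orderOf u).factorization r := by
    rw [hG, Nat.factorization_mul hk0 (orderOf_pos u).ne', Finsupp.add_apply,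
      Nat.factorization_eq_zero_of_not_dvd hrk, zero_add]
  refine ⟨Sylow.ofCard (zpowers (u ^ (orderOf u / r ^ (orderOf u).factorization r))) ?_, ?_⟩
  · rw [card_zpowers_div hd, hfac]
  · rw [Sylow.coe_ofCard]
    exact zpowers_le.2 (pow_mem (mem_zpowers u) _)

theorem exists_gen {u : G} {k r : ℕ} [hr : Fact r.Prime]
    (hG : Nat.card G = k * orderOf u) (hrk : ¬ r ∣ k) (P : Sylow r G) :
    ∃ v : G, orderOf v = orderOf u ∧ (P : Subgroup G) ≤ zpowers v := by
  obtain ⟨P₀, hP₀⟩ := exists_sylow_le hG hrk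
  obtain ⟨g, hg⟩ := MulAction.exists_smul_eq G P₀ P
  refine ⟨MulAut.conj g u, MulEquiv.orderOf_eq (MulAut.conj g) u, ?_⟩
  rw [← hg, Sylow.coe_subgroup_smul]
  intro x hx
  obtain ⟨y, hy, rfl⟩ := mem_map.1 (show x ∈ (P₀ : Subgroup G).map (MulAut.conj g).toMonoidHom from hx)
  have := mem_map_of_mem (MulAut.conj g).toMonoidHom (hP₀ hy)
  rw [MonoidHom.map_zpowers] at this
  exact this

theorem card_mul_relIndex' {H K : Subgroup G} (h : H ≤ K) :
    Nat.card H * H.relIndex K = Nat.card K := by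
  rw [relIndex, ← Nat.card_congr (subgroupOfEquivOfLe h).toEquiv, card_mul_index]

/-- Frobenius-type count: `k ≡ |N(P) : C(P)| (mod r)` for a cyclic Sylow subgroup `P`. -/
theorem normalizer_index {r : ℕ} [hr : Fact r.Prime] (P : Sylow r G)
    (hcyc : IsCyclic (P : Subgroup G)) {k c : ℕ} (hG : Nat.card G = k * c)
    (hc : Nat.card (centralizer ((P : Subgroup G) : Set G)) = c) :
    ∃ e : ℕ, Nat.card (normalizer ((P : Subgroup G) : Set G)) = e * c ∧ e ∣ r - 1 ∧
      k ≡ e [MOD r] ∧
      (centralizer ((P : Subgroup G) : Set G)).relIndex (normalizer ((P : Subgroup G) : Set G)) = e := by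
  set C := centralizer ((P : Subgroup G) : Set G) with hC
  set N := normalizer ((P : Subgroup G) : Set G) with hN
  have hCN : C ≤ N := by
    intro x hx
    rw [hN, mem_normalizer_iff]
    intro y
    have hx' := mem_centralizer_iff.1 hx
    constructor
    · intro hy
      rw [← hx' y hy, mul_inv_cancel_right]
      exact hy
    · intro hy
      have h1 := hx' _ hy
      have h2 : x * y * x⁻¹ = y := by
        have : x * y * x⁻¹ * x = x * (x * y * x⁻¹) := h1
        rw [inv_mul_cancel_right] at this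
        exact (mul_left_cancel this).symm
      exact h2 ▸ hy
  refine ⟨C.relIndex N, ?_, ?_, ?_, rfl⟩
  · rw [← hc, mul_comm, card_mul_relIndex' hCN]
  · have key := card_dvd_of_injective _ (QuotientGroup.kerLift_injective
      (P : Subgroup G).normalizerMonoidHom)
    rw [normalizerMonoidHom_ker, ← index, ← relIndex] at key
    rw [hcyc.card_mulAut] at key
    obtain ⟨j, hj⟩ := P.2.exists_card_eq
    rw [hj] at key
    rcases Nat.eq_zero_or_pos j with hj0 | hj0
    · rw [hj0, pow_zero, Nat.totient_one] at key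
      exact key.trans (one_dvd _)
    rw [Nat.totient_prime_pow hr.out hj0] at key
    refine Nat.Coprime.dvd_of_dvd_mul_left (Nat.Coprime.pow_right _ ?_) key
    rw [Nat.coprime_comm, hr.out.coprime_iff_not_dvd]
    intro hd
    refine P.not_dvd_index (hd.trans ?_)
    have hPC : (P : Subgroup G) ≤ C := by
      haveI := hcyc
      intro x hx
      rw [hC, mem_centralizer_iff]
      intro y hy
      exact congrArg Subtype.val
        (IsCyclic.commGroup.mul_comm (⟨y, hy⟩ : (P : Subgroup G)) ⟨x, hx⟩)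
    exact (relIndex_dvd_index_of_le hCN).trans (index_dvd_of_le hPC)
  · have hn : Nat.card (Sylow r G) * Nat.card N = Nat.card G := by
      rw [P.card_eq_index_normalizer]; exact index_mul_card _
    have h1 : Nat.card (Sylow r G) * C.relIndex N = k := by
      refine Nat.eq_of_mul_eq_mul_right (m := c) (hc ▸ Nat.card_pos) ?_
      rw [← hG, mul_assoc, mul_comm (C.relIndex N), ← hc, card_mul_relIndex' hCN, hn]
    rw [← h1]
    simpa using (card_sylow_modEq_one r G).mul_right (C.relIndex N)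

/-- An element outside the centralizer, normalizing a cyclic `r`-group (`r` odd) with its square
centralizing it, inverts it. -/
theorem inverts_of_sq {r : ℕ} [hr : Fact r.Prime] (hr2 : r ≠ 2) {H : Subgroup G} (hH : IsPGroup r H)
    [hcyc : IsCyclic H] {w : G} (hw : w ∈ normalizer (H : Set G))
    (hwC : w ∉ centralizer (H : Set G)) (hw2 : w * w ∈ centralizer (H : Set G)) :
    ∀ a ∈ H, w * a * w⁻¹ = a⁻¹ := by
  obtain ⟨⟨g, hg⟩, hgen⟩ := IsCyclic.exists_generator (α := H)
  have hall : ∀ a ∈ H, ∃ i : ℤ, g ^ i = a := fun a ha => by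
    obtain ⟨i, hi⟩ := mem_zpowers_iff.1 (hgen ⟨a, ha⟩)
    exact ⟨i, congrArg Subtype.val hi⟩
  obtain ⟨j, hj⟩ := hall _ ((mem_normalizer_iff.1 hw g).1 hg)
  obtain ⟨v, hv⟩ := hH ⟨g, hg⟩
  obtain ⟨v', -, hv'⟩ := (Nat.dvd_prime_pow hr.out).1
    (orderOf_dvd_of_pow_eq_one (congrArg Subtype.val hv : g ^ r ^ v = 1))
  have hjj : g ^ (j * j) = g := by
    have h1 := mem_centralizer_iff.1 hw2 g hg
    calc g ^ (j * j) = (w * g * w⁻¹) ^ j := by rw [← hj, zpow_mul]
      _ = w * (g ^ j) * w⁻¹ := by rw [conj_zpow]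
      _ = w * w * g * (w * w)⁻¹ := by rw [hj]; group
      _ = g := by rw [← h1, mul_inv_cancel_right]
  have hdvd : (r : ℤ) ^ v' ∣ (j - 1) * (j + 1) := by
    have : ((orderOf g : ℕ) : ℤ) ∣ j * j - 1 := by
      rw [orderOf_dvd_iff_zpow_eq_one, zpow_sub, hjj, zpow_one, mul_inv_cancel]
    rw [hv', Nat.cast_pow] at this
    rwa [show (j - 1) * (j + 1) = j * j - 1 by ring]
  have hrp : Prime (r : ℤ) := Nat.prime_iff_prime_int.1 hr.out
  have hcases : (r : ℤ) ^ v' ∣ j - 1 ∨ (r : ℤ) ^ v' ∣ j + 1 := by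
    by_cases h : (r : ℤ) ∣ j - 1
    · left
      refine hrp.pow_dvd_of_dvd_mul_right v' ?_ hdvd
      intro h'
      have h2 : (r : ℤ) ∣ ((2 : ℕ) : ℤ) := by
        have := dvd_sub h' h
        simpa [show j + 1 - (j - 1) = 2 by ring] using this
      exact hr2 ((Nat.prime_dvd_prime_iff_eq hr.out Nat.prime_two).1 (Int.natCast_dvd_natCast.1 h2))
    · exact Or.inr (hrp.pow_dvd_of_dvd_mul_left v' h hdvd)
  rcases hcases with h | h
  · refine absurd (mem_centralizer_iff.2 fun a ha => ?_) hwC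
    have hone : g ^ j = g := by
      rw [← Nat.cast_pow, ← hv', orderOf_dvd_iff_zpow_eq_one, zpow_sub, zpow_one,
        mul_inv_eq_one] at h
      exact h
    obtain ⟨i, rfl⟩ := hall a ha
    have : w * g ^ i * w⁻¹ = g ^ i := by rw [← conj_zpow, ← hj, hone]
    calc g ^ i * w = w * g ^ i * w⁻¹ * w := by rw [this]
      _ = w * g ^ i := by group
  · intro a ha
    have hneg : g ^ j = g⁻¹ := by
      rw [← Nat.cast_pow, ← hv', orderOf_dvd_iff_zpow_eq_one, zpow_add, zpow_one,
        mul_eq_one_iff_eq_inv] at h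
      exact h
    obtain ⟨i, rfl⟩ := hall a ha
    rw [← conj_zpow, ← hj, hneg, inv_zpow]

end CfsgLib.PSLSpectrum
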