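import Cfsg.Agent.Lib.Perm.PSLSpectrum.Odd
import Cfsg.Agent.Lib.Classical.PSL2Spectrum
import Cfsg.Agent.Lib.Classical.ProjLine
import Cfsg.Agent.Lib.Char.SylSeventeen.Recog
import Cfsg.Agent.S1230

/-!
# `PSL(2,q)` is determined by its order and its set of element orders
-/

set_option autoImplicit false

namespace CfsgLib.PSLSpectrum

open Subgroup

universe u

theorem cube_inj {a b : ℕ} (ha : 2 ≤ a) (hb : 2 ≤ b)
    (h : a * ((a - 1) * (a + 1)) = b * ((b - 1) * (b + 1))) : a = b := by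
  rcases lt_trichotomy a b with hlt | heq | hlt
  · exact absurd h (ne_of_lt (Nat.mul_lt_mul_of_lt_of_le hlt
      (Nat.mul_le_mul (by omega) (by omega)) (Nat.mul_pos (by omega) (by omega))))
  · exact heq
  · exact absurd h (ne_of_gt (Nat.mul_lt_mul_of_lt_of_le hlt
      (Nat.mul_le_mul (by omega) (by omega)) (Nat.mul_pos (by omega) (by omega))))

variable {G : Type u} [Group G] [Finite G]

/-- The arithmetic of the odd case. -/
theorem data_of_odd {p q : ℕ} (hp : p.Prime) (hp2 : p ≠ 2) (hq : ∃ f, 1 ≤ f ∧ q = p ^ f)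
    (h5 : 5 ≤ q) (hodd : Odd q) (hcard : 2 * Nat.card G = q * ((q - 1) * (q + 1)))
    (hspec : ∀ m : ℕ, (∃ g : G, orderOf g = m) ↔
      (m ∣ p ∨ m ∣ (q - 1) / 2 ∨ m ∣ (q + 1) / 2)) :
    ∃ me mo : ℕ, Data G p q me mo := by
  obtain ⟨f, hf, hqf⟩ := hq
  obtain ⟨l, hl⟩ := hodd
  have hpq : p ∣ q := hqf ▸ dvd_pow_self p (by omega)
  have ha : (q - 1) / 2 = l := by omega
  have hb : (q + 1) / 2 = l + 1 := by omega
  rw [ha, hb] at hspec
  have hpl : ¬ p ∣ l := fun hd => hp.not_dvd_one (by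
    have h1 : p ∣ 2 * l := dvd_mul_of_dvd_right hd 2
    exact (Nat.dvd_add_right h1).1 (hl ▸ hpq))
  have hpl' : ¬ p ∣ l + 1 := fun hd => hp.not_dvd_one (by
    have h1 : p ∣ q + 1 := by
      rw [show q + 1 = 2 * (l + 1) by omega]
      exact dvd_mul_of_dvd_right hd 2
    exact (Nat.dvd_add_right hpq).1 h1)
  have hcard' : Nat.card G = q * (2 * (l * (l + 1))) := by
    have h1 : q * ((q - 1) * (q + 1)) = 2 * (q * (2 * (l * (l + 1)))) := by
      rw [show q - 1 = 2 * l by omega, show q + 1 = 2 * (l + 1) by omega]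
      ring
    omega
  have hcop : l.Coprime (l + 1) := Nat.coprime_self_add_right.2 (Nat.coprime_one_right _)
  have hex : ∀ m, (m = l ∨ m = l + 1) → ∃ g : G, orderOf g = m := by
    rintro m (rfl | rfl)
    · exact (hspec _).2 (Or.inr (Or.inl dvd_rfl))
    · exact (hspec _).2 (Or.inr (Or.inr dvd_rfl))
  have hord : ∀ g : G, orderOf g ∣ p ∨ orderOf g ∣ l ∨ orderOf g ∣ l + 1 :=
    fun g => (hspec _).1 ⟨g, rfl⟩
  rcases Nat.even_or_odd l with hev | hod
  · refine ⟨l, l + 1, ⟨hp, hp2, ⟨f, hf, hqf⟩, hev, hev.add_one, by omega, hcop, hpl, hpl', ?_,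
      ?_, ?_, hord, hex l (Or.inl rfl), hex _ (Or.inr rfl)⟩⟩
    · rw [hcard']; ring
    · -- `q ≡ -1`, `2 l ≡ -2` modulo `l + 1`
      rw [Nat.modEq_iff_dvd, hl]
      push_cast
      exact ⟨-(4 * l - 2), by ring⟩
    · rw [Nat.modEq_iff_dvd, hl]
      push_cast
      exact ⟨-(2 * l + 3), by ring⟩
  · refine ⟨l + 1, l, ⟨hp, hp2, ⟨f, hf, hqf⟩, hod.add_one, hod, by omega, hcop.symm, hpl', hpl, ?_,
      ?_, ?_, fun g => (hord g).imp_right Or.symm, hex _ (Or.inr rfl), hex l (Or.inl rfl)⟩⟩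
    · rw [hcard']; ring
    · rw [Nat.modEq_iff_dvd, hl]
      push_cast
      exact ⟨-(4 * l + 6), by ring⟩
    · rw [Nat.modEq_iff_dvd, hl]
      push_cast
      exact ⟨-(2 * l - 1), by ring⟩

/-- The even case: the centralizers of involutions are elementary abelian. -/
theorem even_case {q : ℕ} (hq : ∃ f, 1 ≤ f ∧ q = 2 ^ f) (h4 : 4 ≤ q)
    (hcard : Nat.card G = q * ((q - 1) * (q + 1)))
    (hspec : ∀ g : G, orderOf g ∣ 2 ∨ orderOf g ∣ q - 1 ∨ orderOf g ∣ q + 1) :
    ∃ (K : Type) (_ : Field K) (_ : Fintype K), Fintype.card K = q ∧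
      Nonempty (G ≃* Matrix.ProjectiveSpecialLinearGroup (Fin 2) K) := by
  obtain ⟨f, hf, hqf⟩ := hq
  have h2q : 2 ∣ q := hqf ▸ dvd_pow_self 2 (by omega)
  have hodd1 : ¬ 2 ∣ q - 1 := by omega
  have hodd2 : ¬ 2 ∣ q + 1 := by omega
  have hC : ∀ t : G, orderOf t = 2 →
      ∀ c ∈ centralizer ({t} : Set G), c ^ 2 = 1 := by
    intro t ht c hc
    rcases hspec c with h | h | h
    · exact orderOf_dvd_iff_pow_eq_one.1 h
    all_goals
      by_cases hc1 : c = 1
      · rw [hc1, one_pow]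
      exfalso
      have hc' : Commute t c := (mem_centralizer_singleton_iff.1 hc).symm
      have hco : (orderOf t).Coprime (orderOf c) := by
        rw [ht]
        refine Nat.prime_two.coprime_iff_not_dvd.2 fun hd => ?_
        first
          | exact hodd1 (hd.trans h)
          | exact hodd2 (hd.trans h)
      have ho : orderOf (t * c) = 2 * orderOf c := by
        rw [hc'.orderOf_mul_eq_mul_orderOf_of_coprime hco, ht]
      have h1 : 1 < orderOf c :=
        lt_of_le_of_ne (orderOf_pos c) fun e => hc1 (orderOf_eq_one_iff.1 e.symm)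
      rcases hspec (t * c) with h' | h' | h' <;> rw [ho] at h'
      · have := Nat.le_of_dvd two_pos h'
        omega
      · exact hodd1 ((dvd_mul_right _ _).trans h')
      · exact hodd2 ((dvd_mul_right _ _).trans h')
  obtain ⟨T⟩ : Nonempty (Sylow 2 G) := inferInstance
  have hTcard : Nat.card (T : Subgroup G) = q := by
    have hrest : ¬ 2 ∣ (q - 1) * (q + 1) := fun hd =>
      (Nat.prime_two.dvd_mul.1 hd).elim hodd1 hodd2
    rw [T.card_eq_multiplicity, hcard,
      Nat.factorization_mul (by omega) (fun e => hrest (by rw [e]; exact dvd_zero 2)),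
      Finsupp.add_apply, Nat.factorization_eq_zero_of_not_dvd hrest, hqf,
      Nat.Prime.factorization_pow Nat.prime_two, Finsupp.single_eq_same, add_zero]
  have hT2 : ∀ x ∈ (T : Subgroup G), x ^ 2 = 1 := by
    intro x hx
    obtain ⟨j, hj⟩ := Invol.orderOf_pow_two_of_mem (P := T) hx
    rcases hspec x with h | h | h
    · exact orderOf_dvd_iff_pow_eq_one.1 h
    all_goals
      rcases Nat.eq_zero_or_pos j with h0 | h0
      · rw [h0, pow_zero, orderOf_eq_one_iff] at hj
        rw [hj, one_pow]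
      · exfalso
        have hd : 2 ∣ orderOf x := hj ▸ dvd_pow_self 2 h0.ne'
        first
          | exact hodd1 (hd.trans h)
          | exact hodd2 (hd.trans h)
  have hnc : ¬ IsCyclic (T : Subgroup G) := by
    intro hc
    obtain ⟨⟨g, hg⟩, hgen⟩ := IsCyclic.exists_generator (α := (T : Subgroup G))
    have h1 := orderOf_eq_card_of_forall_mem_zpowers hgen
    rw [hTcard, orderOf_mk] at h1
    have := Nat.le_of_dvd two_pos (orderOf_dvd_of_pow_eq_one (hT2 g hg))
    omega
  have hnn : ¬ (T : Subgroup G).Normal := by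
    intro hn
    obtain ⟨⟨t, htT⟩, hto⟩ := exists_prime_orderOf_dvd_card' (G := (T : Subgroup G)) 2
      (hTcard.symm ▸ h2q)
    rw [orderOf_mk] at hto
    -- the class of `t` has `q² - 1` elements inside `T`
    have hsub : Nat.card (MulAction.orbit (ConjAct G) t) ≤ q := by
      rw [← hTcard]
      refine Nat.card_le_card_of_injective (fun x => ⟨x.1, ?_⟩) fun x y e => by
        exact Subtype.ext (congrArg Subtype.val e :)
      obtain ⟨g, hg⟩ := x.2
      rw [← hg]
      simp only [ConjAct.smul_def]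
      exact hn.conj_mem t htT _
    have hdvd : Nat.card (centralizer ({t} : Set G)) ∣ q := by
      have hP : IsPGroup 2 (centralizer ({t} : Set G)) := fun c =>
        ⟨1, by rw [pow_one]; exact Subtype.ext (hC t hto c c.2)⟩
      obtain ⟨T', hT'⟩ := hP.exists_le_sylow
      rw [← hTcard, Sylow.card_eq_multiplicity, ← T'.card_eq_multiplicity]
      exact card_dvd_of_le hT'
    have hidx := index_mul_card (MulAction.stabilizer (ConjAct G) t)
    rw [MulAction.index_stabilizer] at hidx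
    have hstab : Nat.card (MulAction.stabilizer (ConjAct G) t) =
        Nat.card (centralizer ({t} : Set G)) := by
      refine Nat.card_congr
        ⟨fun x => ⟨ConjAct.ofConjAct x.1, ?_⟩, fun x => ⟨ConjAct.toConjAct x.1, ?_⟩,
          fun x => Subtype.ext rfl, fun x => Subtype.ext rfl⟩
      · have h1 := x.2
        rw [MulAction.mem_stabilizer_iff, ConjAct.smul_def, mul_inv_eq_iff_eq_mul] at h1
        exact mem_centralizer_singleton_iff.2 h1
      · rw [MulAction.mem_stabilizer_iff, ConjAct.smul_def, ConjAct.ofConjAct_toConjAct,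
          mul_inv_eq_iff_eq_mul]
        exact mem_centralizer_singleton_iff.1 x.2
    have hcle : Nat.card (centralizer ({t} : Set G)) ≤ q := Nat.le_of_dvd (by omega) hdvd
    rw [hstab, show Nat.card (ConjAct G) = Nat.card G from rfl, hcard,
      ← Nat.card_coe_set_eq] at hidx
    have hbound : q * ((q - 1) * (q + 1)) ≤ q * q :=
      hidx ▸ Nat.mul_le_mul hsub hcle
    have := Nat.le_of_mul_le_mul_left hbound (by omega)
    have : 3 * (q + 1) ≤ (q - 1) * (q + 1) := Nat.mul_le_mul_right _ (by omega)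
    omega
  obtain ⟨K, _, _, hK, e⟩ := Cfsg.Agent.S1230.result T hnc hnn fun t ht => ⟨⟨⟨fun a b => by
      have sq : ∀ c : centralizer ({t} : Set G), c⁻¹ = c := fun c =>
        inv_eq_of_mul_eq_one_right (by rw [← pow_two]; exact Subtype.ext (hC t ht c c.2))
      calc a * b = (a * b)⁻¹ := (sq _).symm
        _ = b⁻¹ * a⁻¹ := mul_inv_rev _ _
        _ = b * a := by rw [sq, sq]⟩⟩, hC t ht⟩
  exact ⟨K, inferInstance, inferInstance, hK.trans hTcard, e⟩

/-- The characterization. -/
theorem equiv_of_order_spectrum {F : Type*} [Field F] [Fintype F] (hF : 3 < Fintype.card F)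
    (hspec : Set.range (orderOf : G → ℕ) =
      Set.range (orderOf : Matrix.ProjectiveSpecialLinearGroup (Fin 2) F → ℕ))
    (hcard : Nat.card G = Nat.card (Matrix.ProjectiveSpecialLinearGroup (Fin 2) F)) :
    Nonempty (G ≃* Matrix.ProjectiveSpecialLinearGroup (Fin 2) F) := by
  obtain ⟨p, hpc⟩ := CharP.exists F
  haveI := hpc
  obtain ⟨⟨f, hf⟩, hp, hq⟩ := FiniteField.card F p
  haveI := Fact.mk hp
  simp only [PNat.mk_coe] at hq
  have h4 : 4 ≤ Fintype.card F := hF
  have hmem : ∀ m : ℕ, (∃ g : G, orderOf g = m) ↔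
      (m ∣ p ∨ m ∣ (Fintype.card F - 1) / Nat.gcd 2 (Fintype.card F - 1) ∨
        m ∣ (Fintype.card F + 1) / Nat.gcd 2 (Fintype.card F - 1)) := fun m => by
    rw [← CfsgLib.Classical.PSL2Spectrum.mem_range_orderOf (F := F) p h4 m, ← hspec, Set.mem_range]
  have hc := CfsgLib.Classical.card_psl2 (F := F)
  rw [← hcard] at hc
  by_cases hp2 : p = 2
  · subst hp2
    have hev : Fintype.card F % 2 = 0 :=
      Nat.even_iff.1 (hq ▸ Nat.even_pow.2 ⟨even_two, hf.ne'⟩)
    have hg : Nat.gcd 2 (Fintype.card F - 1) = 1 := Nat.prime_two.coprime_iff_not_dvd.2 (by omega)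
    rw [hg, one_mul] at hc
    obtain ⟨K, _, _, hK, ⟨e⟩⟩ := even_case (G := G) (q := Fintype.card F) ⟨f, hf, hq⟩ h4 hc
      (fun g => by
        have := (hmem _).1 ⟨g, rfl⟩
        rwa [hg, Nat.div_one, Nat.div_one] at this)
    obtain ⟨e'⟩ := CfsgLib.Char.SylSeventeen.pslEquiv_of_card_eq (K := K) (F := F) hK
    exact ⟨e.trans e'⟩
  · have hodd : Odd (Fintype.card F) := by
      rw [hq]
      exact (hp.odd_of_ne_two hp2).pow
    have hm2 : Fintype.card F % 2 = 1 := Nat.odd_iff.1 hodd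
    have hg : Nat.gcd 2 (Fintype.card F - 1) = 2 :=
      Nat.gcd_eq_left (Nat.dvd_of_mod_eq_zero (by omega))
    rw [hg] at hc
    obtain ⟨me, mo, hd⟩ := data_of_odd (G := G) hp hp2 ⟨f, hf, hq⟩ (by omega) hodd hc
      (fun m => by rw [hmem m, hg])
    obtain ⟨K, _, _, hKodd, ⟨e⟩⟩ := hd.exists_psl
    have hK := CfsgLib.Classical.card_psl2 (F := K)
    have hK2 : Fintype.card K % 2 = 1 := Nat.odd_iff.1 hKodd
    have h2K := Fintype.one_lt_card (α := K)
    rw [Nat.gcd_eq_left (Nat.dvd_of_mod_eq_zero (by omega)), ← Nat.card_congr e.toEquiv, hc] at hK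
    obtain ⟨e'⟩ := CfsgLib.Char.SylSeventeen.pslEquiv_of_card_eq (K := K) (F := F)
      (cube_inj h2K (by omega) hK.symm)
    exact ⟨e.trans e'⟩

end CfsgLib.PSLSpectrum
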