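import Cfsg.Agent.Lib.Perm.PSLSpectrum.Simple
import Cfsg.Agent.Lib.Invol.Basic
import Cfsg.Agent.S0508

/-!
# Groups with the order and spectrum of `PSL(2,q)`, `q` odd: Brauer-Suzuki-Wall
-/

set_option autoImplicit false

namespace CfsgLib.PSLSpectrum

open Subgroup
open scoped commutatorElement

universe u

variable {G : Type u} [Group G] [Finite G] {p q me mo : ℕ}

/-- The even torus with its `2`-part, involution and odd part. -/
structure Frame (G : Type u) [Group G] (p q me mo : ℕ) where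
  data : Data G p q me mo
  w : G
  k : ℕ
  m : ℕ
  order_w : orderOf w = me
  k_pos : 1 ≤ k
  m_odd : Odd m
  me_eq : me = 2 ^ k * m

namespace Frame

variable (F : Frame G p q me mo)

/-- The generator of the `2`-part. -/
def a : G := F.w ^ F.m
/-- The involution. -/
def t : G := F.w ^ (2 ^ (F.k - 1) * F.m)
/-- The odd part. -/
def O : Subgroup G := zpowers (F.w ^ 2 ^ F.k)

theorem order_w' : orderOf F.w = 2 ^ F.k * F.m := F.order_w.trans F.me_eq

theorem order_a : orderOf F.a = 2 ^ F.k := by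
  unfold a
  rw [orderOf_pow, F.order_w', Nat.gcd_mul_left_left,
    Nat.mul_div_cancel _ F.m_odd.pos]

theorem t_eq : F.t = F.a ^ 2 ^ (F.k - 1) := by
  unfold t a
  rw [← pow_mul, mul_comm]

theorem order_t : orderOf F.t = 2 := by
  rw [F.t_eq, orderOf_pow, F.order_a, Nat.gcd_eq_right (Nat.pow_dvd_pow 2 (Nat.sub_le _ _)),
    Nat.pow_div (Nat.sub_le _ _) two_pos, Nat.sub_sub_self F.k_pos, pow_one]

theorem card_O : Nat.card F.O = F.m := by
  unfold O
  rw [Nat.card_zpowers, orderOf_pow, F.order_w', Nat.gcd_mul_right_left,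
    Nat.mul_div_cancel_left _ (pow_pos two_pos _)]

theorem O_le : F.O ≤ zpowers F.w := zpowers_le.2 (pow_mem (mem_zpowers _) _)

theorem a_mem : F.a ∈ zpowers F.w := pow_mem (mem_zpowers _) _

theorem t_mem : F.t ∈ zpowers F.w := pow_mem (mem_zpowers _) _

theorem t_mem_a : F.t ∈ zpowers F.a := F.t_eq ▸ pow_mem (mem_zpowers _) _

theorem invol_eq {v : G} (hv : v = F.a ∨ v = F.w) {x : G} (hx : x ∈ zpowers v)
    (hxo : orderOf x = 2) : x = F.t := by
  have htv : F.t ∈ zpowers v := by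
    rcases hv with rfl | rfl
    · exact F.t_mem_a
    · exact F.t_mem
  have h1 : zpowers x = zpowers F.t := eq_of_le_zpowers (zpowers_le.2 hx) (zpowers_le.2 htv)
    (by rw [Nat.card_zpowers, Nat.card_zpowers, hxo, F.order_t])
  have h2 : x ∈ zpowers F.t := h1 ▸ mem_zpowers x
  obtain ⟨i, rfl⟩ := mem_zpowers_iff.1 h2
  rcases Int.even_or_odd i with ⟨j, rfl⟩ | ⟨j, rfl⟩
  · rw [← two_mul, zpow_mul, zpow_two, ← pow_two, ← F.order_t, pow_orderOf_eq_one, one_zpow,
      orderOf_one] at hxo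
    exact absurd (hxo.trans F.order_t) (by norm_num)
  · rw [zpow_add, zpow_mul, zpow_two, ← pow_two, ← F.order_t, pow_orderOf_eq_one, one_zpow,
      one_mul, zpow_one]

theorem normalizer_le_cent {v : G} (hv : v = F.a ∨ v = F.w) :
    normalizer (zpowers v : Set G) ≤ centralizer ({F.t} : Set G) := by
  intro g hg
  have htv : F.t ∈ zpowers v := by
    rcases hv with rfl | rfl
    · exact F.t_mem_a
    · exact F.t_mem
  have h1 := F.invol_eq hv ((mem_normalizer_iff.1 hg F.t).1 htv) (Invol.invol_conj F.order_t g)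
  rw [mem_centralizer_singleton_iff]
  rwa [mul_inv_eq_iff_eq_mul] at h1

theorem card_G : Nat.card G = 2 ^ (F.k + 1) * (q * mo * F.m) := by
  rw [F.data.card]
  conv_lhs => rw [F.me_eq]
  rw [pow_succ]
  ring

theorem odd_rest : ¬ 2 ∣ q * mo * F.m := by
  intro hd
  rcases Nat.prime_two.dvd_mul.1 hd with h1 | h1
  · rcases Nat.prime_two.dvd_mul.1 h1 with h2 | h2
    · exact F.data.p_ne_two (F.data.eq_p_of_dvd_q Nat.prime_two h2).symm
    · exact F.data.two_not_mo h2
  · exact (Nat.not_even_iff_odd.2 F.m_odd) (even_iff_two_dvd.2 h1)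

theorem card_sylow (S : Sylow 2 G) : Nat.card (S : Subgroup G) = 2 ^ (F.k + 1) := by
  rw [S.card_eq_multiplicity, F.card_G,
    Nat.factorization_mul (pow_pos two_pos _).ne'
      (fun e => F.odd_rest (by rw [e]; exact dvd_zero 2)), Finsupp.add_apply,
    Nat.factorization_eq_zero_of_not_dvd F.odd_rest, Nat.Prime.factorization_pow Nat.prime_two,
    Finsupp.single_eq_same, add_zero]

theorem exists_sylow : ∃ S : Sylow 2 G, zpowers F.a ≤ (S : Subgroup G) :=
  (IsPGroup.of_card (n := F.k) (by rw [Nat.card_zpowers, F.order_a]) :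
    IsPGroup 2 (zpowers F.a)).exists_le_sylow

variable {S : Sylow 2 G} (hS : zpowers F.a ≤ (S : Subgroup G))
include hS

theorem index_a : ((zpowers F.a).subgroupOf (S : Subgroup G)).index = 2 := by
  have h1 := card_mul_relIndex' hS
  rw [Nat.card_zpowers, F.order_a, F.card_sylow, pow_succ] at h1
  exact mul_left_cancel₀ (pow_pos two_pos _).ne' h1

theorem sylow_le : (S : Subgroup G) ≤ centralizer ({F.t} : Set G) := by
  haveI := normal_of_index_eq_two (F.index_a hS)
  exact ((normal_subgroupOf_iff_le_normalizer hS).1 inferInstance).trans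
    (F.normalizer_le_cent (Or.inl rfl))

theorem card_cent : Nat.card (centralizer ({F.t} : Set G)) = 2 * me := by
  have hd := F.data.cent_E_dvd Nat.prime_two (even_iff_two_dvd.1 F.data.me_even) F.order_t
  have h1 : me ∣ Nat.card (centralizer ({F.t} : Set G)) := by
    refine (F.order_w.symm.trans (Nat.card_zpowers F.w).symm).dvd.trans ?_
    exact card_dvd_of_le (zpowers_le_centralizer F.t_mem)
  have h2 : 2 ^ (F.k + 1) ∣ Nat.card (centralizer ({F.t} : Set G)) :=
    F.card_sylow S ▸ card_dvd_of_le (F.sylow_le hS)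
  obtain ⟨c, hc⟩ := h1
  rw [hc, mul_comm 2 me] at hd
  rcases (Nat.dvd_prime Nat.prime_two).1 (Nat.dvd_of_mul_dvd_mul_left F.data.me_pos hd)
    with h | h
  · exfalso
    rw [hc, h, mul_one, pow_succ] at h2
    replace h2 := h2.trans F.me_eq.dvd
    exact (Nat.not_even_iff_odd.2 F.m_odd)
      (even_iff_two_dvd.2 (Nat.dvd_of_mul_dvd_mul_left (pow_pos two_pos _) h2))
  · rw [hc, h, mul_comm]

theorem cent_le_normalizer :
    centralizer ({F.t} : Set G) ≤ normalizer (zpowers F.w : Set G) := by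
  have hle := zpowers_le_centralizer F.t_mem
  have h1 := card_mul_relIndex' hle
  rw [Nat.card_zpowers, F.order_w, F.card_cent hS, mul_comm 2 me] at h1
  haveI := normal_of_index_eq_two (mul_left_cancel₀ F.data.me_pos.ne' h1 :
    ((zpowers F.w).subgroupOf (centralizer ({F.t} : Set G))).index = 2)
  exact (normal_subgroupOf_iff_le_normalizer hle).1 inferInstance

theorem inter_w : (S : Subgroup G) ⊓ zpowers F.w = zpowers F.a := by
  refine (eq_of_le_of_card_ge (le_inf hS (zpowers_le.2 F.a_mem)) ?_).symm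
  rw [Nat.card_zpowers, F.order_a]
  have h1 : Nat.card ↥((S : Subgroup G) ⊓ zpowers F.w) ∣ 2 ^ (F.k + 1) :=
    F.card_sylow S ▸ card_dvd_of_le inf_le_left
  have h2 : Nat.card ↥((S : Subgroup G) ⊓ zpowers F.w) ∣ 2 ^ F.k * F.m := by
    rw [← F.order_w', ← Nat.card_zpowers]
    exact card_dvd_of_le inf_le_right
  refine Nat.le_of_dvd (pow_pos two_pos _) (Nat.Coprime.dvd_of_dvd_mul_right ?_ h2)
  exact Nat.Coprime.coprime_dvd_left h1
    (Nat.Coprime.pow_left _ (Nat.coprime_two_left.2 F.m_odd))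

theorem O_inf : F.O ⊓ (S : Subgroup G) = ⊥ := by
  refine inf_eq_bot_of_coprime ?_
  rw [F.card_O, F.card_sylow]
  exact (Nat.Coprime.pow_left _ (Nat.coprime_two_left.2 F.m_odd)).symm

theorem cent_eq_mul {g : G} (hg : g ∈ centralizer ({F.t} : Set G)) :
    ∃ o ∈ F.O, ∃ s ∈ (S : Subgroup G), g = o * s := by
  have hn : (S : Subgroup G) ≤ normalizer (F.O : Set G) :=
    ((F.sylow_le hS).trans (F.cent_le_normalizer hS)).trans (normalizer_zpowers_le F.O_le)
  have hle : F.O ⊔ (S : Subgroup G) ≤ centralizer ({F.t} : Set G) :=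
    sup_le (F.O_le.trans (zpowers_le_centralizer F.t_mem)) (F.sylow_le hS)
  have heq : F.O ⊔ (S : Subgroup G) = centralizer ({F.t} : Set G) := by
    refine eq_of_le_of_card_ge hle (Nat.le_of_dvd Nat.card_pos ?_)
    rw [F.card_cent hS]
    refine ((congrArg (2 * ·) F.me_eq).trans
      (show 2 * (2 ^ F.k * F.m) = F.m * 2 ^ (F.k + 1) by ring)).dvd.trans ?_
    refine Nat.Coprime.mul_dvd_of_dvd_of_dvd
      (Nat.Coprime.pow_left _ (Nat.coprime_two_left.2 F.m_odd)).symm ?_ ?_
    · exact F.card_O ▸ card_dvd_of_le le_sup_left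
    · exact F.card_sylow S ▸ card_dvd_of_le le_sup_right
  have h1 : g ∈ (↑(F.O ⊔ (S : Subgroup G)) : Set G) := by rw [heq]; exact hg
  rw [coe_mul_of_right_le_normalizer_left _ _ hn] at h1
  obtain ⟨o, ho, s, hs, rfl⟩ := Set.mem_mul.1 h1
  exact ⟨o, ho, s, hs, rfl⟩

theorem sq_mem {x : G} (hx : x ∈ (S : Subgroup G)) : x * x ∈ zpowers F.a :=
  mem_subgroupOf.1 (mul_self_mem_of_index_two (F.index_a hS) ⟨x, hx⟩)

theorem mul_mem_of_not_mem {x y : G} (hx : x ∈ (S : Subgroup G)) (hy : y ∈ (S : Subgroup G))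
    (hxa : x ∉ zpowers F.a) (hya : y ∉ zpowers F.a) : x * y ∈ zpowers F.a := by
  have := (mul_mem_iff_of_index_two (F.index_a hS) (a := ⟨x, hx⟩) (b := ⟨y, hy⟩)).2
    ⟨fun h => absurd (mem_subgroupOf.1 h) hxa, fun h => absurd (mem_subgroupOf.1 h) hya⟩
  exact mem_subgroupOf.1 this

/-- Transfer: an index two subgroup of `S` with all involutions is impossible. -/
theorem false_of_invol_subgroup (M₀ : Subgroup G) (hM₀ : M₀ ≤ (S : Subgroup G))
    (hidx : (M₀.subgroupOf (S : Subgroup G)).index = 2)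
    (hinv : ∀ x ∈ (S : Subgroup G), orderOf x = 2 → x ∈ M₀) : False := by
  haveI := F.data.isSimpleGroup
  have hperf : commutator G = ⊤ := by
    refine (IsSimpleGroup.eq_bot_or_eq_top_of_normal _ inferInstance).resolve_left fun hb => ?_
    refine F.data.not_comm ⟨⟨fun x y => ?_⟩⟩
    have : ⁅x, y⁆ ∈ commutator G := commutator_mem_commutator (mem_top x) (mem_top y)
    rw [hb, mem_bot, commutatorElement_eq_one_iff_mul_comm] at this
    exact this
  have hker : (S : Subgroup G).transferFocal.ker = ⊤ := by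
    rw [eq_top_iff, ← hperf, _root_.commutator_def, commutator_le]
    intro x _ y _
    rw [MonoidHom.mem_ker, map_commutatorElement, commutatorElement_eq_one_iff_mul_comm]
    exact IsMulCommutative.is_comm.comm _ _
  have hfoc : (S : Subgroup G).focalSubgroup = S := by
    rw [← Subgroup.ker_transferFocal_inf_eq_focalSubgroup, hker, top_inf_eq]
  have hle : (S : Subgroup G).focalSubgroup ≤ M₀ := by
    rw [focalSubgroup_def, closure_le]
    rintro g ⟨hgS, x, hxS, v, rfl⟩
    rw [commutatorElement_def] at hgS ⊢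
    have hyS : v * x⁻¹ * v⁻¹ ∈ (S : Subgroup G) := by
      have := mul_mem (inv_mem hxS) hgS
      rwa [show x⁻¹ * (x * v * x⁻¹ * v⁻¹) = v * x⁻¹ * v⁻¹ by group] at this
    obtain ⟨j, hj⟩ := Invol.orderOf_pow_two_of_mem (P := S) hxS
    by_cases hj1 : j ≤ 1
    · interval_cases j
      · rw [pow_zero, orderOf_eq_one_iff] at hj
        subst hj
        simp
      · rw [pow_one] at hj
        have hy2 : orderOf (v * x⁻¹ * v⁻¹) = 2 := Invol.invol_conj (by rwa [orderOf_inv]) v
        rw [SetLike.mem_coe, show x * v * x⁻¹ * v⁻¹ = x * (v * x⁻¹ * v⁻¹) by group]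
        exact mul_mem (hinv x hxS hj) (hinv _ hyS hy2)
    · -- the fusion is inside `C(t)`
      have key : ∀ z ∈ (S : Subgroup G), orderOf z = 2 ^ j → z ^ 2 ^ (j - 1) = F.t := by
        intro z hz hzo
        refine F.invol_eq (Or.inl rfl) ?_ ?_
        · rw [show 2 ^ (j - 1) = 2 * 2 ^ (j - 1 - 1) by
            rw [← pow_succ']; congr 1; omega, pow_mul, pow_two]
          exact pow_mem (F.sq_mem hS hz) _
        · rw [orderOf_pow, hzo, Nat.gcd_eq_right (Nat.pow_dvd_pow 2 (Nat.sub_le _ _)),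
            Nat.pow_div (Nat.sub_le _ _) two_pos, show j - (j - 1) = 1 by omega, pow_one]
      have hyo : orderOf (v * x⁻¹ * v⁻¹) = 2 ^ j := by
        rw [show v * x⁻¹ * v⁻¹ = MulAut.conj v x⁻¹ from rfl, MulEquiv.orderOf_eq, orderOf_inv, hj]
      have hvC : v ∈ centralizer ({F.t} : Set G) := by
        have h1 := key _ hyS hyo
        rw [conj_pow, key x⁻¹ (inv_mem hxS) (by rw [orderOf_inv, hj])] at h1
        rw [mem_centralizer_singleton_iff]
        rwa [mul_inv_eq_iff_eq_mul] at h1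
      obtain ⟨o, ho, σ, hσ, rfl⟩ := F.cent_eq_mul hS hvC
      have hx' : σ * x⁻¹ * σ⁻¹ ∈ (S : Subgroup G) :=
        mul_mem (mul_mem hσ (inv_mem hxS)) (inv_mem hσ)
      have hone : (o * σ) * x⁻¹ * (o * σ)⁻¹ * (σ * x⁻¹ * σ⁻¹)⁻¹ = 1 := by
        rw [← mem_bot, ← F.O_inf hS, mem_inf]
        refine ⟨?_, mul_mem hyS (inv_mem hx')⟩
        rw [show (o * σ) * x⁻¹ * (o * σ)⁻¹ * (σ * x⁻¹ * σ⁻¹)⁻¹ =
          o * ((σ * x⁻¹ * σ⁻¹) * o⁻¹ * (σ * x⁻¹ * σ⁻¹)⁻¹) by group]
        have hn : (S : Subgroup G) ≤ normalizer (F.O : Set G) :=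
          ((F.sylow_le hS).trans (F.cent_le_normalizer hS)).trans (normalizer_zpowers_le F.O_le)
        exact mul_mem ho ((mem_normalizer_iff.1 (hn hx') o⁻¹).1 (inv_mem ho))
      rw [mul_inv_eq_one] at hone
      rw [SetLike.mem_coe, show x * (o * σ) * x⁻¹ * (o * σ)⁻¹ = x * ((o * σ) * x⁻¹ * (o * σ)⁻¹) by
        group, hone, show x * (σ * x⁻¹ * σ⁻¹) = x * σ * x⁻¹ * σ⁻¹ by group]
      have hpar : (⟨x, hxS⟩ * ⟨σ, hσ⟩ * (⟨x, hxS⟩ : (S : Subgroup G))⁻¹ *
          (⟨σ, hσ⟩ : (S : Subgroup G))⁻¹) ∈ M₀.subgroupOf (S : Subgroup G) := by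
        simp only [mul_mem_iff_of_index_two hidx, inv_mem_iff]
        tauto
      exact mem_subgroupOf.1 hpar
  rw [hfoc] at hle
  have : M₀.subgroupOf (S : Subgroup G) = ⊤ := by rwa [subgroupOf_eq_top]
  rw [this, index_top] at hidx
  exact absurd hidx (by norm_num)

theorem exists_inverting :
    ∃ s ∈ (S : Subgroup G), s ∉ zpowers F.a ∧ orderOf s = 2 ∧ s * F.a * s⁻¹ = F.a⁻¹ := by
  by_cases hex : ∃ s ∈ (S : Subgroup G), s ∉ zpowers F.a ∧ orderOf s = 2
  swap
  · push_neg at hex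
    exact (F.false_of_invol_subgroup hS (zpowers F.a) hS (F.index_a hS)
      fun x hx hxo => by_contra fun h => hex x hx h hxo).elim
  obtain ⟨s, hsS, hsa, hs2⟩ := hex
  by_contra hcon
  push_neg at hcon
  have hk2 : 2 ≤ F.k := by
    by_contra hk
    have hk1 : F.k = 1 := by have := F.k_pos; omega
    have hat : F.a = F.t := by rw [F.t_eq, hk1, Nat.sub_self, pow_zero, pow_one]
    refine hcon s hsS hsa hs2 ?_
    have h1 := mem_centralizer_singleton_iff.1 (F.sylow_le hS hsS)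
    rw [hat, h1, mul_inv_cancel_right, Invol.invol_inv F.order_t]
  set A₂ := zpowers (F.a * F.a) with hA₂
  have hA₂a : A₂ ≤ zpowers F.a := zpowers_le.2 (mul_mem (mem_zpowers _) (mem_zpowers _))
  have hA₂card : Nat.card A₂ = 2 ^ (F.k - 1) := by
    rw [hA₂, Nat.card_zpowers, ← pow_two, orderOf_pow, F.order_a,
      Nat.gcd_eq_right (dvd_pow_self 2 (by omega))]
    conv_lhs => rw [← Nat.sub_add_cancel F.k_pos, pow_succ, Nat.mul_div_cancel _ two_pos]
  have hsN : zpowers s ≤ normalizer (A₂ : Set G) := by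
    rw [zpowers_le]
    refine normalizer_zpowers_le hA₂a ?_
    haveI := normal_of_index_eq_two (F.index_a hS)
    exact (normal_subgroupOf_iff_le_normalizer hS).1 inferInstance hsS
  set M₀ := A₂ ⊔ zpowers s with hM₀
  have hmem : ∀ x, x ∈ M₀ ↔ ∃ b ∈ A₂, ∃ c ∈ zpowers s, x = b * c := by
    intro x
    rw [hM₀, ← SetLike.mem_coe, coe_mul_of_right_le_normalizer_left _ _ hsN, Set.mem_mul]
    exact ⟨fun ⟨b, hb, c, hc, e⟩ => ⟨b, hb, c, hc, e.symm⟩,
      fun ⟨b, hb, c, hc, e⟩ => ⟨b, hb, c, hc, e.symm⟩⟩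
  have hM₀S : M₀ ≤ (S : Subgroup G) := sup_le (hA₂a.trans hS) (zpowers_le.2 hsS)
  have hdisj : A₂ ⊓ zpowers s = ⊥ := by
    rw [eq_bot_iff]
    rintro x ⟨hx1, hx2⟩
    obtain ⟨i, rfl⟩ := mem_zpowers_iff.1 hx2
    rcases Int.even_or_odd i with ⟨j, rfl⟩ | ⟨j, rfl⟩
    · rw [mem_bot, ← two_mul, zpow_mul, zpow_two, Invol.invol_mul_self hs2, one_zpow]
    · rw [zpow_add, zpow_mul, zpow_two, Invol.invol_mul_self hs2, one_zpow, one_mul,
        zpow_one] at hx1
      exact absurd (hA₂a hx1) hsa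
  have hM₀card : Nat.card M₀ = 2 ^ F.k := by
    obtain ⟨i, hi, hie⟩ := (Nat.dvd_prime_pow Nat.prime_two).1
      (F.card_sylow S ▸ card_dvd_of_le hM₀S)
    have hle : Nat.card M₀ ≤ 2 ^ F.k := by
      let f : A₂ × zpowers s → M₀ := fun z =>
        ⟨z.1 * z.2, (hmem _).2 ⟨_, z.1.2, _, z.2.2, rfl⟩⟩
      have hf : Function.Surjective f := fun x => by
        obtain ⟨b, hb, c, hc, e⟩ := (hmem x).1 x.2
        exact ⟨(⟨b, hb⟩, ⟨c, hc⟩), Subtype.ext e.symm⟩
      refine (Nat.card_le_card_of_surjective f hf).trans (le_of_eq ?_)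
      rw [Nat.card_prod, hA₂card, Nat.card_zpowers, hs2, ← pow_succ, Nat.sub_add_cancel F.k_pos]
    have hgt : 2 ^ (F.k - 1) < Nat.card M₀ := by
      rw [← hA₂card]
      refine lt_of_le_of_ne (Nat.le_of_dvd Nat.card_pos (card_dvd_of_le le_sup_left)) fun e => hsa (hA₂a ?_)
      rw [eq_of_le_of_card_ge (le_sup_left : A₂ ≤ M₀) e.ge]
      exact mem_sup_right (mem_zpowers s)
    rw [hie] at hle hgt ⊢
    have h1 := (Nat.pow_le_pow_iff_right (by norm_num)).1 hle
    have h2 := (Nat.pow_lt_pow_iff_right (by norm_num)).1 hgt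
    congr 1
    omega
  refine F.false_of_invol_subgroup hS M₀ hM₀S ?_ fun x hxS hx2 => ?_
  · have h1 := card_mul_relIndex' hM₀S
    rw [hM₀card, F.card_sylow, pow_succ] at h1
    exact mul_left_cancel₀ (pow_pos two_pos _).ne' h1
  by_cases hxa : x ∈ zpowers F.a
  · rw [F.invol_eq (Or.inl rfl) hxa hx2, F.t_eq,
      show 2 ^ (F.k - 1) = 2 * 2 ^ (F.k - 1 - 1) by rw [← pow_succ']; congr 1; omega, pow_mul,
      pow_two]
    exact mem_sup_left (pow_mem (mem_zpowers _) _)
  obtain ⟨i, hi⟩ := mem_zpowers_iff.1 (F.mul_mem_of_not_mem hS hxS hsS hxa hsa)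
  have hxe : x = F.a ^ i * s := by
    rw [hi, mul_assoc, Invol.invol_mul_self hs2, mul_one]
  rcases Int.even_or_odd i with ⟨j, rfl⟩ | hodd
  · rw [hxe, ← two_mul, zpow_mul, zpow_two]
    exact mul_mem (mem_sup_left (zpow_mem (mem_zpowers _) _)) (mem_sup_right (mem_zpowers s))
  · exfalso
    refine hcon s hsS hsa hs2 ?_
    have hinvi : s * F.a ^ i * s⁻¹ = (F.a ^ i)⁻¹ := by
      have h1 := Invol.invol_mul_self hx2
      refine eq_inv_of_mul_eq_one_right ?_
      rw [Invol.invol_inv hs2]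
      simpa [hxe, mul_assoc] using h1
    -- `a` is a power of `a ^ i`
    have hco : IsCoprime i (2 ^ F.k : ℤ) := by
      refine IsCoprime.pow_right ?_
      obtain ⟨l, rfl⟩ := hodd
      exact ⟨1, -l, by ring⟩
    obtain ⟨b, c, hbc⟩ := hco
    have ha : F.a = (F.a ^ i) ^ b := by
      have h2 : F.a ^ (c * (2 ^ F.k : ℤ)) = 1 := by
        rw [mul_comm, zpow_mul, show (2 ^ F.k : ℤ) = ((2 ^ F.k : ℕ) : ℤ) by push_cast; rfl,
          zpow_natCast, ← F.order_a, pow_orderOf_eq_one, one_zpow]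
      have h3 : F.a ^ (b * i + c * (2 ^ F.k : ℤ)) = F.a := by rw [hbc, zpow_one]
      rw [zpow_add, h2, mul_one, mul_comm, zpow_mul] at h3
      exact h3.symm
    rw [ha, ← conj_zpow, hinvi, inv_zpow]

theorem dihedral : Nonempty ((S : Subgroup G) ≃* DihedralGroup (2 ^ F.k)) := by
  obtain ⟨s, hsS, hsa, hs2, hinv⟩ := F.exists_inverting hS
  have hy2 : orderOf (s * F.a) = 2 := by
    rw [Invol.invol_iff]
    refine ⟨?_, fun e => hsa ?_⟩
    · calc s * F.a * (s * F.a) = s * F.a * s⁻¹ * F.a := by rw [Invol.invol_inv hs2]; group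
        _ = 1 := by rw [hinv, inv_mul_cancel]
    · rw [eq_inv_of_mul_eq_one_left e]
      exact inv_mem (mem_zpowers _)
  have hprod : s * (s * F.a) = F.a := by
    rw [← mul_assoc, Invol.invol_mul_self hs2, one_mul]
  have heq : closure ({s, s * F.a} : Set G) = (S : Subgroup G) := by
    refine eq_of_le_of_card_ge ((closure_le _).2 ?_) (le_of_eq ?_)
    · rintro x (rfl | rfl)
      · exact hsS
      · exact mul_mem hsS (hS (mem_zpowers _))
    · rw [Invol.card_closure_pair hs2 hy2, hprod, F.order_a, F.card_sylow, pow_succ']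
  have he := Invol.dihedralEquiv hs2 hy2
  rw [hprod, F.order_a] at he
  exact ⟨(MulEquiv.subgroupCongr heq.symm).trans he⟩

theorem oddCore_cent :
    (Cfsg.oddCore (centralizer ({F.t} : Set G))).map (centralizer ({F.t} : Set G)).subtype =
      F.O := by
  set C := centralizer ({F.t} : Set G) with hC
  have hOC : F.O ≤ C := F.O_le.trans (zpowers_le_centralizer F.t_mem)
  have hn : (F.O.subgroupOf C).Normal :=
    (normal_subgroupOf_iff_le_normalizer hOC).2
      ((F.cent_le_normalizer hS).trans (normalizer_zpowers_le F.O_le))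
  have hcop : (Nat.card (F.O.subgroupOf C)).Coprime 2 := by
    rw [Nat.card_congr (subgroupOfEquivOfLe hOC).toEquiv, F.card_O]
    exact Nat.coprime_two_right.2 F.m_odd
  have h1 : F.O.subgroupOf C ≤ Cfsg.oddCore C := le_sSup ⟨hn, hcop⟩
  have hc2 := CfsgLib.Coprime.pPrimeCore_coprime (G := C) Nat.prime_two
  refine (eq_of_le_of_card_ge ?_ ?_).symm
  · rw [← map_subgroupOf_eq_of_le hOC]
    exact map_mono h1
  · rw [F.card_O, card_map_of_injective C.subtype_injective]
    refine Nat.le_of_dvd F.m_odd.pos (Nat.Coprime.dvd_of_dvd_mul_left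
      (hc2.pow_right (F.k + 1)) ?_)
    have := card_subgroup_dvd_card (Cfsg.oddCore C)
    rw [hC, F.card_cent hS] at this
    exact this.trans ((congrArg (2 * ·) F.me_eq).trans
      (show 2 * (2 ^ F.k * F.m) = 2 ^ (F.k + 1) * F.m by ring)).dvd

end Frame

theorem Data.exists_frame {h : Data G p q me mo} : Nonempty (Frame G p q me mo) := by
  obtain ⟨w, hw⟩ := h.exE
  refine ⟨⟨h, w, me.factorization 2, me / 2 ^ me.factorization 2, hw, ?_, ?_, ?_⟩⟩
  · exact (Nat.prime_two.dvd_iff_one_le_factorization h.me_pos.ne').1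
      (even_iff_two_dvd.1 h.me_even)
  · rw [← Nat.not_even_iff_odd, even_iff_two_dvd]
    exact Nat.not_dvd_ordCompl Nat.prime_two h.me_pos.ne'
  · exact (Nat.ordProj_mul_ordCompl_eq_self me 2).symm

/-- The recognition. -/
theorem Data.exists_psl (h : Data G p q me mo) :
    ∃ (K : Type) (_ : Field K) (_ : Fintype K), Odd (Fintype.card K) ∧
      Nonempty (G ≃* Matrix.ProjectiveSpecialLinearGroup (Fin 2) K) := by
  obtain ⟨F⟩ := Data.exists_frame (h := h)
  obtain ⟨S, hS⟩ := F.exists_sylow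
  haveI := h.isSimpleGroup
  have hOU := F.O_le
  have hyC : ∀ Y : Subgroup G, Y ≤ F.O → Y ≠ ⊥ → ∃ y ∈ Y, (orderOf y).Prime ∧
      centralizer ({y} : Set G) = zpowers F.w ∧ ∀ s ∈ centralizer ({F.t} : Set G),
        s ∉ zpowers F.w → ∀ b ∈ zpowers y, s * b * s⁻¹ = b⁻¹ := by
    intro Y hY hne
    obtain ⟨r, hr, hrd⟩ := Nat.exists_prime_and_dvd (fun e => hne (card_eq_one.1 e))
    haveI := Fact.mk hr
    obtain ⟨⟨y, hyY⟩, hyo⟩ := exists_prime_orderOf_dvd_card' (G := Y) r hrd
    rw [orderOf_mk] at hyo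
    have hrm : r ∣ F.m := F.card_O ▸ hrd.trans (card_dvd_of_le hY)
    have hr2 : r ≠ 2 := fun e => (Nat.not_even_iff_odd.2 F.m_odd) (even_iff_two_dvd.2 (e ▸ hrm))
    have hrme : r ∣ me := F.me_eq ▸ dvd_mul_of_dvd_right hrm _
    obtain ⟨P, hP⟩ := exists_sylow_le (u := F.w) (k := q * mo * 2)
      (by rw [h.card, F.order_w]; ring) (h.not_dvd_compl_E hr hr2 hrme)
    obtain ⟨-, -, hinv, hcent⟩ := h.torus_E hr2 hrme P F.order_w hP
    have hyP : y ∈ (P : Subgroup G) := by
      have hrP : r ∣ Nat.card (P : Subgroup G) :=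
        P.dvd_card_of_dvd_card (h.card ▸ dvd_mul_of_dvd_right (dvd_mul_of_dvd_right hrme _) _)
      obtain ⟨⟨y', hy'⟩, hy'o⟩ := exists_prime_orderOf_dvd_card' (G := (P : Subgroup G)) r hrP
      rw [orderOf_mk] at hy'o
      have h1 : zpowers y = zpowers y' := eq_of_le_zpowers (zpowers_le.2 (hOU (hY hyY)))
        (zpowers_le.2 (hP hy')) (by rw [Nat.card_zpowers, Nat.card_zpowers, hyo, hy'o])
      exact zpowers_le.2 hy' (h1 ▸ mem_zpowers y)
    refine ⟨y, hyY, hyo ▸ hr, hcent y hyP hyo, fun s hs hsw b hb => ?_⟩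
    exact hinv s ((F.cent_le_normalizer hS).trans (normalizer_zpowers_le hP) hs) hsw b
      (zpowers_le.2 hyP hb)
  have hCO : F.O ≠ ⊥ → centralizer (F.O : Set G) = zpowers F.w := fun hne => by
    obtain ⟨y, hy, -, hyc, -⟩ := hyC F.O le_rfl hne
    exact le_antisymm (hyc ▸ centralizer_le (Set.singleton_subset_iff.2 hy))
      (zpowers_le_centralizer' hOU)
  refine Cfsg.Agent.S0508.result S (2 ^ F.k) ?_ (F.dihedral hS) F.t F.order_t (hS F.t_mem_a)
    (fun s hs => mem_centralizer_singleton_iff.1 (F.sylow_le hS hs)) F.O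
    (F.oddCore_cent hS).symm ?_ ?_ ?_
  · exact le_trans (le_of_eq (pow_one 2).symm) (Nat.pow_le_pow_right two_pos F.k_pos)
  · intro hne
    rw [hCO hne, F.inter_w hS]
    exact ⟨inferInstance, F.index_a hS⟩
  · intro s hs hsC y hy
    have hsw : s ∉ zpowers F.w := fun e => hsC (zpowers_le_centralizer' hOU e)
    let I : Subgroup G :=
      { carrier := {b | b ∈ zpowers F.w ∧ s * b * s⁻¹ = b⁻¹}
        one_mem' := ⟨one_mem _, by simp⟩
        mul_mem' := fun {a b} ha hb => ⟨mul_mem ha.1 hb.1, by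
          rw [conj_mul.symm, ha.2, hb.2, mul_inv_rev]
          obtain ⟨i, rfl⟩ := mem_zpowers_iff.1 ha.1
          obtain ⟨k, rfl⟩ := mem_zpowers_iff.1 hb.1
          rw [← zpow_neg, ← zpow_neg, ← zpow_add, ← zpow_add, add_comm]⟩
        inv_mem' := fun {a} ha => ⟨inv_mem ha.1, by rw [← conj_inv, ha.2]⟩ }
    suffices y ∈ I from this.2
    refine CfsgLib.PGroup.mem_of_forall_prime_pow_mem fun r hr => ?_
    by_cases hrm : r ∣ F.m
    · haveI := Fact.mk hr
      have hr2 : r ≠ 2 := fun e => (Nat.not_even_iff_odd.2 F.m_odd) (even_iff_two_dvd.2 (e ▸ hrm))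
      have hrme : r ∣ me := F.me_eq ▸ dvd_mul_of_dvd_right hrm _
      obtain ⟨P, hP⟩ := exists_sylow_le (u := F.w) (k := q * mo * 2)
        (by rw [h.card, F.order_w]; ring) (h.not_dvd_compl_E hr hr2 hrme)
      obtain ⟨-, -, hinv, -⟩ := h.torus_E hr2 hrme P F.order_w hP
      refine ⟨orderOf y / r ^ (orderOf y).factorization r,
        Nat.not_dvd_ordCompl hr (orderOf_pos y).ne', pow_mem (hOU hy) _, ?_⟩
      refine hinv s (((F.sylow_le hS).trans (F.cent_le_normalizer hS)).trans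
        (normalizer_zpowers_le hP) hs) hsw _ ?_
      set z := y ^ (orderOf y / r ^ (orderOf y).factorization r) with hz
      have hzo : orderOf z = r ^ (orderOf y).factorization r := by
        rw [hz, orderOf_pow_orderOf_div (orderOf_pos y).ne' (Nat.ordProj_dvd _ _)]
      obtain ⟨j, hj⟩ := P.2.exists_card_eq
      have hzle : (orderOf y).factorization r ≤ j := by
        have h1 := orderOf_dvd_natCard y
        have h2 := (Nat.factorization_le_iff_dvd (orderOf_pos y).ne' Nat.card_pos.ne').2 h1 r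
        have h3 := P.card_eq_multiplicity
        rw [hj] at h3
        rw [Nat.pow_right_injective hr.two_le h3]
        exact h2
      rw [eq_zpowers_of_le hP, hj]
      refine mem_zpowers_of_pow_eq_one ?_ (pow_mem (hOU hy) _) ?_
      · rw [← hj, ← Nat.card_zpowers]
        exact card_dvd_of_le hP
      · exact orderOf_dvd_iff_pow_eq_one.1 (hzo ▸ Nat.pow_dvd_pow r hzle)
    · refine ⟨F.m, hrm, ?_⟩
      rw [← F.card_O]
      have h1 : (⟨y, hy⟩ : F.O) ^ Nat.card F.O = 1 := pow_card_eq_one'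
      rw [show y ^ Nat.card F.O = 1 from congrArg Subtype.val h1]
      exact one_mem I
  · intro Y hY hne g hg
    obtain ⟨y, hyY, hyp, hyc, -⟩ := hyC Y hY hne
    have hgy : zpowers (g * y * g⁻¹) = zpowers y := eq_of_le_zpowers
      (zpowers_le.2 (hOU (hY ((mem_normalizer_iff.1 hg y).1 hyY))))
      (zpowers_le.2 (hOU (hY hyY))) (by
        rw [Nat.card_zpowers, Nat.card_zpowers, show g * y * g⁻¹ = MulAut.conj g y from rfl,
          MulEquiv.orderOf_eq])
    have hgn : g ∈ normalizer (zpowers y : Set G) := by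
      rw [mem_normalizer_iff]
      intro x
      constructor
      · intro hx
        obtain ⟨i, rfl⟩ := mem_zpowers_iff.1 hx
        rw [← hgy, ← conj_zpow]
        exact zpow_mem (mem_zpowers _) i
      · intro hx
        rw [← hgy] at hx
        obtain ⟨i, hi⟩ := mem_zpowers_iff.1 hx
        rw [conj_zpow, mul_left_inj, mul_right_inj] at hi
        exact hi ▸ zpow_mem (mem_zpowers y) i
    have h1 := normalizer_le_normalizer_centralizer hgn
    rw [hyc] at h1
    exact F.normalizer_le_cent (Or.inr rfl) h1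

end CfsgLib.PSLSpectrum
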