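import Cfsg.Agent.Lib.Perm.PSLSpectrum.Tori
import Cfsg.Agent.Lib.PGroup.FixedPointFree
import Cfsg.Agent.Lib.Coprime.Fitting

/-!
# Groups with the order and spectrum of `PSL(2,q)`, `q` odd, are simple
-/

set_option autoImplicit false

namespace CfsgLib.PSLSpectrum

open Subgroup

universe u

variable {G : Type u} [Group G] [Finite G] {p q me mo : ℕ}

/-- If some element of prime order `r` of a nontrivial `s`-group `M` ... fixed point freely, then
`r ∣ |M| - 1`. -/
theorem dvd_card_sub_one {M : Subgroup G} [M.Normal] {y : G} {r : ℕ} [Fact r.Prime]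
    (hy : orderOf y = r) (hfix : ∀ m ∈ M, m * y = y * m → m = 1) :
    r ∣ Nat.card M - 1 := by
  have hZ : IsPGroup r (zpowers y) :=
    IsPGroup.of_card (n := 1) (by rw [Nat.card_zpowers, hy, pow_one])
  letI : MulAction (zpowers y) M := MulAction.compHom M
    ((MulAut.conjNormal : G →* MulAut M).comp (zpowers y).subtype)
  have hmod := hZ.card_modEq_card_fixedPoints M
  have hone : MulAction.fixedPoints (zpowers y) M = {1} := by
    ext m
    simp only [MulAction.mem_fixedPoints, Set.mem_singleton_iff]
    constructor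
    · intro hm
      have h1 := congrArg Subtype.val (hm ⟨y, mem_zpowers y⟩)
      change y * (m : G) * y⁻¹ = (m : G) at h1
      exact Subtype.ext (hfix m m.2 (mul_inv_eq_iff_eq_mul.1 h1).symm)
    · rintro rfl g
      exact map_one (MulAut.conjNormal (g : G) : M ≃* M)
  rw [hone, Nat.card_coe_set_eq, Set.ncard_singleton] at hmod
  exact (Nat.modEq_iff_dvd' Nat.card_pos).1 hmod.symm

theorem conjNormal_iterate {M : Subgroup G} [M.Normal] (y : G) (n : ℕ) (m : M) :
    (((MulAut.conjNormal y : M ≃* M))^[n] m : G) = y ^ n * m * (y ^ n)⁻¹ := by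
  induction n with
  | zero => simp
  | succ n ih =>
    rw [Function.iterate_succ_apply', MulAut.conjNormal_apply, ih, pow_succ']
    group

namespace Data

variable (h : Data G p q me mo)
include h

theorem card_gt_two_me : 2 * me < Nat.card G := by
  rw [h.card]
  refine lt_mul_left (by have := h.me_pos; omega) ?_
  calc 1 < mo := h.one_lt
    _ ≤ q * mo := Nat.le_mul_of_pos_left _ h.q_pos

theorem card_gt_two_mo : 2 * mo < Nat.card G := by
  rw [h.card]
  have h2 : 2 ≤ me := Nat.le_of_dvd h.me_pos (even_iff_two_dvd.1 h.me_even)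
  have h4 : 4 ≤ q * (2 * me) := le_trans (by omega) (Nat.le_mul_of_pos_left (2 * me) h.q_pos)
  calc 2 * mo < 4 * mo := by
        have := h.one_lt
        omega
    _ ≤ q * (2 * me) * mo := Nat.mul_le_mul_right _ h4
    _ = q * mo * (2 * me) := by ring

/-- A nontrivial minimal normal proper subgroup has order prime to `mo`. -/
theorem minimal_coprime {M : Subgroup G} [hMn : M.Normal] (hMtop : M ≠ ⊤)
    (hmin : ∀ K : Subgroup G, K.Normal → K ≤ M → K = ⊥ ∨ K = M)
    {r : ℕ} [hrF : Fact r.Prime] (hrm : r ∣ mo) : ¬ r ∣ Nat.card M := by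
  intro hrM
  have hr := hrF.out
  obtain ⟨u, hu⟩ := h.exO
  obtain ⟨Q⟩ : Nonempty (Sylow r M) := inferInstance
  set Q' : Subgroup G := (Q : Subgroup M).map M.subtype with hQ'
  obtain ⟨P, hQP⟩ := ((Q.2.map M.subtype : IsPGroup r Q')).exists_le_sylow
  obtain ⟨v, hv, hPv⟩ := exists_gen (u := u) (k := q * (2 * me)) (by rw [h.card, hu]; ring)
    (h.not_dvd_compl_O hr hrm) P
  rw [hu] at hv
  have hQv : Q' ≤ zpowers v := hQP.trans hPv
  have hQcard : Nat.card Q' = Nat.card (Q : Subgroup M) :=
    card_map_of_injective M.subtype_injective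
  obtain ⟨⟨y, hyQ⟩, hyo⟩ := exists_prime_orderOf_dvd_card' (G := Q') r
    (hQcard ▸ Q.dvd_card_of_dvd_card hrM)
  rw [orderOf_mk] at hyo
  -- `N(Q') ≤ N(⟨v⟩) ≤ N(P)`
  have hNv : normalizer (Q' : Set G) ≤ normalizer (zpowers v : Set G) := by
    intro g hg
    rw [← h.cent_eq_O hr hrm hv hyo (hQv hyQ)]
    refine normalizer_le_normalizer_centralizer ?_
    rw [mem_normalizer_iff]
    have hgy : g * y * g⁻¹ ∈ zpowers y := by
      have h1 : zpowers (g * y * g⁻¹) = zpowers y := eq_of_le_zpowers
        (zpowers_le.2 (hQv ((mem_normalizer_iff.1 hg y).1 hyQ))) (zpowers_le.2 (hQv hyQ))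
        (by rw [Nat.card_zpowers, Nat.card_zpowers,
          show g * y * g⁻¹ = MulAut.conj g y from rfl, MulEquiv.orderOf_eq])
      exact h1 ▸ mem_zpowers _
    have hmap : (zpowers y).map (MulAut.conj g).toMonoidHom = zpowers y := by
      rw [MonoidHom.map_zpowers]
      exact eq_of_le_of_card_ge (zpowers_le.2 hgy) (le_of_eq (by
        rw [Nat.card_zpowers, Nat.card_zpowers]; exact (MulEquiv.orderOf_eq (MulAut.conj g) y).symm))
    intro x
    constructor
    · intro hx
      rw [← hmap]
      exact mem_map.2 ⟨x, hx, rfl⟩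
    · intro hx
      rw [← hmap] at hx
      obtain ⟨x', hx', he⟩ := mem_map.1 hx
      simp only [MulEquiv.toMonoidHom_eq_coe, MonoidHom.coe_coe, MulAut.conj_apply,
        mul_right_inj, mul_left_inj] at he
      exact he ▸ hx'
  have hNP : normalizer (zpowers v : Set G) ≤ normalizer ((P : Subgroup G) : Set G) :=
    normalizer_zpowers_le hPv
  obtain ⟨hCP, hNcard, -⟩ := h.torus_O hrm P hv hPv
  by_cases hall : normalizer (Q' : Set G) ⊓ M ≤ zpowers v
  · -- `M` has a normal `r`-complement
    obtain ⟨Q₁, K, hKn, hK⟩ := CfsgLib.Fusion.hasNormalPComplement_of_normalizer_le_centralizer Q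
      (fun x hx => by
        have hxN : (x : G) ∈ normalizer (Q' : Set G) := by
          rw [mem_normalizer_iff]
          intro z
          constructor
          · intro hz
            obtain ⟨z', hz', rfl⟩ := mem_map.1 hz
            exact ⟨x * z' * x⁻¹, (mem_normalizer_iff.1 hx z').1 hz', rfl⟩
          · intro hz
            obtain ⟨z', hz', he⟩ := mem_map.1 hz
            refine ⟨x⁻¹ * z' * x, (mem_normalizer_iff.1 hx _).2 (by simpa [mul_assoc] using hz'), ?_⟩
            change (x : G)⁻¹ * (z' : G) * x = z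
            rw [show (z' : G) = x * z * (x : G)⁻¹ from he]
            group
        have hxv : (x : G) ∈ zpowers v := hall ⟨hxN, x.2⟩
        rw [mem_centralizer_iff]
        intro z hz
        exact Subtype.ext (mem_centralizer_iff.1 (zpowers_le_centralizer' hQv hxv) (z : G)
          ⟨z, hz, rfl⟩))
    haveI := hKn
    obtain ⟨j, hj⟩ := Q₁.2.exists_card_eq
    have hidx : K.index = r ^ j := by rw [hK.symm.index_eq_card, hj]
    have hKr : ¬ r ∣ Nat.card K := by
      intro hd
      have h1 : Nat.card (Q₁ : Subgroup M) * Nat.card K = Nat.card M := by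
        rw [hj, ← hidx, index_mul_card]
      have h2 : r ^ (j + 1) ∣ Nat.card M := by
        rw [← h1, hj, pow_succ]
        exact mul_dvd_mul_left _ hd
      have h3 := Q₁.card_eq_multiplicity
      rw [hj] at h3
      have := (hr.pow_dvd_iff_le_factorization Nat.card_pos.ne').1 h2
      have h4 := Nat.pow_right_injective hr.two_le h3
      omega
    have hKchar : ∀ x : M, x ∈ K ↔ ¬ r ∣ orderOf x := by
      intro x
      constructor
      · intro hx hd
        exact hKr (hd.trans (by rw [← orderOf_mk x hx]; exact orderOf_dvd_natCard _))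
      · intro hx
        refine CfsgLib.PGroup.mem_of_forall_prime_pow_mem fun t ht => ?_
        by_cases htr : t = r
        · exact ⟨orderOf x, htr ▸ hx, by rw [pow_orderOf_eq_one]; exact one_mem _⟩
        · refine ⟨r ^ j, fun hd => htr ((Nat.prime_dvd_prime_iff_eq ht hr).1
            (ht.dvd_of_dvd_pow hd)), ?_⟩
          rw [← hidx]
          exact pow_index_mem K x
    have hKG : (K.map M.subtype).Normal := ⟨fun n hn g => by
      obtain ⟨x, hx, rfl⟩ := mem_map.1 hn
      refine ⟨⟨g * x * g⁻¹, hMn.conj_mem _ x.2 g⟩, (hKchar _).2 ?_, rfl⟩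
      rw [← Subgroup.orderOf_coe]
      change ¬ r ∣ orderOf (MulAut.conj g (x : G))
      rw [MulEquiv.orderOf_eq, Subgroup.orderOf_coe]
      exact (hKchar x).1 hx⟩
    rcases hmin _ hKG (map_subtype_le K) with h0 | h0
    · -- `M = Q'`
      have hKbot : K = ⊥ := by
        rwa [map_eq_bot_iff_of_injective K M.subtype_injective] at h0
      have hMQ : M = Q' := by
        refine (eq_of_le_of_card_ge (map_subtype_le _) ?_).symm
        rw [hQcard, Q.card_eq_multiplicity, ← Q₁.card_eq_multiplicity, ← hK.symm.index_eq_card,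
          hKbot, index_bot]
      have htop : normalizer (Q' : Set G) = ⊤ := by
        rw [← hMQ]
        exact normalizer_eq_top_iff.2 hMn
      have hbig : Nat.card G ≤ 2 * mo := by
        rw [← hNcard, ← Subgroup.card_top (G := G), ← htop]
        exact Nat.le_of_dvd Nat.card_pos (card_dvd_of_le (hNv.trans hNP))
      exact absurd hbig (not_le.2 h.card_gt_two_mo)
    · exact hKr (by rw [← card_map_of_injective (K := K) M.subtype_injective, h0]; exact hrM)
  · -- an inverting element of `M` puts `N(P)` into `M`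
    obtain ⟨x, ⟨hxQ, hxM⟩, hxv⟩ := SetLike.not_le_iff_exists.1 hall
    have hxn := hNv hxQ
    -- `x` inverts `v`
    let I : Subgroup G :=
      { carrier := {a | a ∈ zpowers v ∧ x * a * x⁻¹ = a⁻¹}
        one_mem' := ⟨one_mem _, by simp⟩
        mul_mem' := fun {a b} ha hb => ⟨mul_mem ha.1 hb.1, by
          rw [conj_mul.symm, ha.2, hb.2, mul_inv_rev]
          obtain ⟨i, rfl⟩ := mem_zpowers_iff.1 ha.1
          obtain ⟨k, rfl⟩ := mem_zpowers_iff.1 hb.1
          rw [← zpow_neg, ← zpow_neg, ← zpow_add, ← zpow_add, add_comm]⟩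
        inv_mem' := fun {a} ha => ⟨inv_mem ha.1, by rw [← conj_inv, ha.2]⟩ }
    have hvI : v ∈ I := by
      refine CfsgLib.PGroup.mem_of_forall_prime_pow_mem fun t ht => ?_
      by_cases htm : t ∣ mo
      · haveI := Fact.mk ht
        obtain ⟨Pt, hPt⟩ := exists_sylow_le (u := v) (k := q * (2 * me))
          (by rw [h.card, hv]; ring) (h.not_dvd_compl_O ht htm)
        obtain ⟨-, -, hinv⟩ := h.torus_O htm Pt hv hPt
        refine ⟨mo / t ^ mo.factorization t, Nat.not_dvd_ordCompl ht h.mo_odd.pos.ne',
          pow_mem (mem_zpowers v) _, ?_⟩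
        refine hinv x (normalizer_zpowers_le hPt hxn) hxv _ ?_
        have hfac : (Nat.card G).factorization t = mo.factorization t := by
          rw [h.card, show q * mo * (2 * me) = q * (2 * me) * mo by ring, Nat.factorization_mul
            (Nat.mul_ne_zero h.q_pos.ne' (by have := h.me_pos; omega)) h.mo_odd.pos.ne',
            Finsupp.add_apply,
            Nat.factorization_eq_zero_of_not_dvd (h.not_dvd_compl_O ht htm), zero_add]
        have heq : (Pt : Subgroup G) = zpowers (v ^ (mo / t ^ mo.factorization t)) := by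
          rw [eq_zpowers_of_le hPt, hv, Pt.card_eq_multiplicity, hfac]
        rw [heq]
        exact mem_zpowers _
      · refine ⟨mo, htm, ?_⟩
        rw [← hv, pow_orderOf_eq_one]
        exact one_mem I
    have hv2 : v * v ∈ M := by
      have h1 : v * x * v⁻¹ * x⁻¹ ∈ M := mul_mem (hMn.conj_mem x hxM v) (inv_mem hxM)
      rwa [show v * x * v⁻¹ * x⁻¹ = v * (x * v * x⁻¹)⁻¹ by group, hvI.2, inv_inv] at h1
    have hvM : v ∈ M := by
      obtain ⟨k, hk⟩ := h.mo_odd
      have h1 : v = (v * v) ^ (k + 1) := by
        rw [← pow_two, ← pow_mul, show 2 * (k + 1) = mo + 1 by omega, pow_succ, ← hv,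
          pow_orderOf_eq_one, one_mul]
      rw [h1]
      exact pow_mem hv2 _
    have hle : normalizer ((P : Subgroup G) : Set G) ≤ M := by
      have hvM' : zpowers v ≤ normalizer ((P : Subgroup G) : Set G) ⊓ M :=
        le_inf (le_normalizer.trans hNP) (zpowers_le.2 hvM)
      have hlt : zpowers v < normalizer ((P : Subgroup G) : Set G) ⊓ M :=
        lt_of_le_of_ne hvM' fun e => hxv (e ▸ ⟨hNP hxn, hxM⟩)
      have hd1 : mo ∣ Nat.card ↥(normalizer ((P : Subgroup G) : Set G) ⊓ M) := by
        rw [← hv, ← Nat.card_zpowers]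
        exact card_dvd_of_le hvM'
      obtain ⟨c, hc⟩ := hd1
      have hc1 : c ≠ 1 := by
        rintro rfl
        rw [mul_one, ← hv, ← Nat.card_zpowers] at hc
        exact hlt.ne (eq_of_le_of_card_ge hvM' hc.le)
      have hc2 : c ∣ 2 := by
        have h1 : mo * c ∣ mo * 2 := by
          rw [← hc, mul_comm mo 2, ← hNcard]
          exact card_dvd_of_le inf_le_left
        exact Nat.dvd_of_mul_dvd_mul_left h.mo_odd.pos h1
      have hc3 : c = 2 := ((Nat.dvd_prime Nat.prime_two).1 hc2).resolve_left hc1
      refine inf_eq_left.1 (eq_of_le_of_card_ge inf_le_left (le_of_eq ?_))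
      rw [hNcard, hc, hc3, mul_comm]
    apply hMtop
    exact (sup_eq_right.2 ((hNv.trans hNP).trans hle)).symm.trans (Sylow.normalizer_sup_eq_top Q)

/-- There is no proper nontrivial normal subgroup. -/
theorem eq_bot_or_top (N : Subgroup G) [N.Normal] : N = ⊥ ∨ N = ⊤ := by
  by_contra hcon
  rw [not_or] at hcon
  obtain ⟨M, hMn, hMbot, hMN, hmin⟩ := CfsgLib.Coprime.exists_minimal_normal_le hcon.1
  have hMtop : M ≠ ⊤ := fun e => hcon.2 (top_unique (e ▸ hMN))
  haveI := hMn
  haveI : Nontrivial M := (nontrivial_iff_ne_bot M).2 hMbot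
  obtain ⟨s, hs, hsm⟩ := Nat.exists_prime_and_dvd h.one_lt.ne'
  haveI := Fact.mk hs
  obtain ⟨u, hu⟩ := h.exO
  set y := u ^ (mo / s) with hydef
  have hyo : orderOf y = s := by
    rw [hydef, ← hu, orderOf_pow_orderOf_div (orderOf_pos u).ne' (hu ▸ hsm)]
  have hyu : y ∈ zpowers u := pow_mem (mem_zpowers u) _
  have hfix : ∀ m ∈ M, m * y = y * m → m = 1 := by
    intro m hm hc
    have h1 : m ∈ centralizer ({y} : Set G) := mem_centralizer_singleton_iff.2 hc
    rw [h.cent_eq_O hs hsm hu hyo hyu] at h1
    by_contra hne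
    obtain ⟨t, ht, htd⟩ := Nat.exists_prime_and_dvd (fun e => hne (orderOf_eq_one_iff.1 e))
    haveI := Fact.mk ht
    have htmo : t ∣ mo := htd.trans (hu ▸ orderOf_dvd_of_mem_zpowers h1)
    exact h.minimal_coprime hMtop hmin htmo
      (htd.trans (by rw [← orderOf_mk m hm]; exact orderOf_dvd_natCard _))
  -- Thompson: `M` is nilpotent, hence elementary abelian
  haveI : Group.IsNilpotent M := by
    refine CfsgLib.PGroup.isNilpotent_of_fixedPointFree hs M (MulAut.conjNormal y)
      (fun m hm => ?_) fun m => Subtype.ext ?_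
    · have h1 := congrArg Subtype.val hm
      rw [MulAut.conjNormal_apply, mul_inv_eq_iff_eq_mul] at h1
      exact Subtype.ext (hfix m m.2 h1.symm)
    · rw [conjNormal_iterate, ← hyo, pow_orderOf_eq_one]
      simp
  obtain ⟨hcomm, r, hr, hexp⟩ := CfsgLib.Coprime.minimal_normal_solvable hMbot hmin
  haveI := Fact.mk hr
  have hMr : IsPGroup r M := fun x => ⟨1, by rw [pow_one]; exact Subtype.ext (hexp x x.2)⟩
  obtain ⟨n, hn⟩ := hMr.exists_card_eq
  have hn0 : n ≠ 0 := by
    rintro rfl
    rw [pow_zero] at hn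
    exact hMbot (card_eq_one.1 hn)
  obtain ⟨⟨z, hzM⟩, hzo⟩ := exists_prime_orderOf_dvd_card' (G := M) r
    (hn ▸ dvd_pow_self r hn0)
  rw [orderOf_mk] at hzo
  have hrG : r ∣ Nat.card G := hzo ▸ orderOf_dvd_natCard z
  have hzord : ∀ m ∈ M, m ≠ 1 → orderOf m = r := fun m hm hne => orderOf_eq_prime (hexp m hm) hne
  rw [h.card] at hrG
  have hrmo : ¬ r ∣ mo := fun hd => h.minimal_coprime hMtop hmin hd (hn ▸ dvd_pow_self r hn0)
  rcases hr.dvd_mul.1 hrG with hd | hd
  · rcases hr.dvd_mul.1 hd with hq | hmo
    · -- a normal `p`-subgroup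
      have hrp := h.eq_p_of_dvd_q hr hq
      subst hrp
      obtain ⟨w, hw⟩ := h.exE
      obtain ⟨a, ha⟩ := even_iff_two_dvd.1 h.me_even
      set t := w ^ (me / 2) with htdef
      have hto : orderOf t = 2 := by
        rw [htdef, ← hw, orderOf_pow_orderOf_div (orderOf_pos w).ne' (hw ▸ ⟨a, ha⟩)]
      -- involutions are fixed point free on `M`, so invert it
      have hno : ∀ (e : G), (orderOf e).Prime → orderOf e ≠ r → ∀ m ∈ M, m * e = e * m → m = 1 := by
        intro e hep her m hm hc
        by_contra hne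
        have hc' : Commute m e := hc
        have hco : (orderOf m).Coprime (orderOf e) := by
          rw [hzord m hm hne]
          exact (Nat.coprime_primes hr hep).2 (Ne.symm her)
        have hprod : orderOf (m * e) = r * orderOf e := by
          rw [hc'.orderOf_mul_eq_mul_orderOf_of_coprime hco, hzord m hm hne]
        rcases h.orders (m * e) with ho | ho | ho <;> rw [hprod] at ho
        · exact her ((Nat.prime_dvd_prime_iff_eq hep hr).1 ((dvd_mul_left _ _).trans ho))
        · exact h.p_not_me ((dvd_mul_right _ _).trans ho)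
        · exact h.p_not_mo ((dvd_mul_right _ _).trans ho)
      have hinv : ∀ e : G, orderOf e = 2 → ∀ m ∈ M, e * m * e⁻¹ = m⁻¹ := by
        intro e he m hm
        have hee : e⁻¹ = e := inv_eq_of_mul_eq_one_right (by rw [← pow_two, ← he, pow_orderOf_eq_one])
        have hc : (m * (e * m * e⁻¹)) * e = e * (m * (e * m * e⁻¹)) := by
          conv_lhs => rw [hcomm m hm _ (hMn.conj_mem m hm e)]
          simp only [hee, mul_assoc]
        exact eq_inv_of_mul_eq_one_right
          (hno e (he ▸ Nat.prime_two) (by rw [he]; exact fun e' => h.p_ne_two e'.symm) _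
            (mul_mem hm (hMn.conj_mem m hm e)) hc)
      -- `C(M)` is a normal `p`-group containing all `t t^g`
      set D := centralizer (M : Set G) with hD
      haveI : D.Normal := inferInstance
      have hDp : IsPGroup r D := by
        refine IsPGroup.of_card (n := (Nat.card D).factorization r) ?_
        refine Nat.eq_pow_of_factorization_eq_single (Nat.card_pos.ne') ?_
        ext e
        rw [Finsupp.single_apply]
        split_ifs with her
        · rw [her]
        · by_cases hep : e.Prime
          · refine Nat.factorization_eq_zero_of_not_dvd fun hde => ?_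
            haveI := Fact.mk hep
            obtain ⟨⟨c, hc⟩, hco⟩ := exists_prime_orderOf_dvd_card' (G := D) e hde
            rw [orderOf_mk] at hco
            have hz1 : z = 1 := hno c (hco ▸ hep) (hco ▸ (Ne.symm her)) z hzM
              (mem_centralizer_iff.1 hc z hzM)
            rw [hz1, orderOf_one] at hzo
            exact hr.one_lt.ne hzo
          · exact Nat.factorization_eq_zero_of_not_prime _ hep
      have hprod : ∀ g : G, g * t * g⁻¹ * t⁻¹ ∈ D := by
        intro g
        rw [hD, mem_centralizer_iff]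
        intro m hm
        have h1 : t⁻¹ * m * t⁻¹⁻¹ = m⁻¹ := hinv t⁻¹ (by rw [orderOf_inv, hto]) m hm
        have h2 : g * t * g⁻¹ * m⁻¹ * (g * t * g⁻¹)⁻¹ = m⁻¹⁻¹ :=
          hinv (g * t * g⁻¹) (by
            rw [show g * t * g⁻¹ = MulAut.conj g t from rfl, MulEquiv.orderOf_eq, hto])
            m⁻¹ (inv_mem hm)
        rw [inv_inv] at h2
        calc m * (g * t * g⁻¹ * t⁻¹)
            = g * t * g⁻¹ * m⁻¹ * (g * t * g⁻¹)⁻¹ * (g * t * g⁻¹ * t⁻¹) := by rw [h2]
          _ = g * t * g⁻¹ * (t⁻¹ * m * t⁻¹⁻¹) * (g * t * g⁻¹)⁻¹ * (g * t * g⁻¹ * t⁻¹) := by rw [h1]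
          _ = g * t * g⁻¹ * t⁻¹ * m := by group
      -- Frattini on `D ⟨t⟩`
      set L := D ⊔ zpowers t with hL
      haveI : L.Normal := ⟨fun l hl g => by
        obtain ⟨d, hd, e, he, rfl⟩ := mem_sup_of_normal_left.1 hl
        obtain ⟨i, rfl⟩ := mem_zpowers_iff.1 he
        rw [show g * (d * t ^ i) * g⁻¹ = (g * d * g⁻¹) * (g * t ^ i * g⁻¹) by group]
        refine mul_mem (mem_sup_left (Subgroup.Normal.conj_mem inferInstance d hd g)) ?_
        rw [← conj_zpow]
        refine zpow_mem ?_ i
        rw [show g * t * g⁻¹ = g * t * g⁻¹ * t⁻¹ * t by group]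
        exact mul_mem (mem_sup_left (hprod g)) (mem_sup_right (mem_zpowers t))⟩
      obtain ⟨d, hd⟩ := hDp.exists_card_eq
      have htL : zpowers t ≤ L := le_sup_right
      have hLcard : Nat.card L ∣ r ^ d * 2 := by
        have h1 := CfsgLib.PGroup.card_sup_dvd_of_normal (zpowers t) D
        rwa [hd, Nat.card_zpowers, hto, sup_comm, mul_comm] at h1
      have h2L : Nat.card ((zpowers t).subgroupOf L) = 2 ^ (Nat.card L).factorization 2 := by
        have h3 : Nat.card ((zpowers t).subgroupOf L) = 2 := by
          rw [Nat.card_congr (subgroupOfEquivOfLe htL).toEquiv, Nat.card_zpowers, hto]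
        have h4 : (Nat.card L).factorization 2 = 1 := by
          refine le_antisymm ?_ ?_
          · have h5 := (Nat.factorization_le_iff_dvd Nat.card_pos.ne'
              (Nat.mul_ne_zero (pow_pos hr.pos d).ne' two_ne_zero)).2 hLcard 2
            rw [Nat.factorization_mul (pow_pos hr.pos d).ne' two_ne_zero, Finsupp.add_apply,
              Nat.Prime.factorization_self Nat.prime_two, Nat.factorization_pow, Finsupp.smul_apply,
              Nat.factorization_eq_zero_of_not_dvd (fun hd2 => h.p_ne_two
                ((Nat.prime_dvd_prime_iff_eq Nat.prime_two hr).1 hd2).symm)] at h5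
            simpa using h5
          · exact (Nat.prime_two.dvd_iff_one_le_factorization Nat.card_pos.ne').1
              (hto ▸ Nat.card_zpowers t ▸ card_dvd_of_le htL)
        rw [h3, h4, pow_one]
      have hsup := Sylow.normalizer_sup_eq_top (Sylow.ofCard _ h2L)
      rw [Sylow.coe_ofCard, subgroupOf_map_subtype, inf_of_le_left htL] at hsup
      have hNt : normalizer (zpowers t : Set G) ≤ centralizer ({t} : Set G) := by
        intro g hg
        have h1 := (mem_normalizer_iff.1 hg t).1 (mem_zpowers t)
        obtain ⟨i, hi⟩ := mem_zpowers_iff.1 h1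
        rw [mem_centralizer_singleton_iff]
        rcases Int.even_or_odd i with ⟨k, rfl⟩ | ⟨k, rfl⟩
        · exfalso
          have hz : t ^ (k + k) = 1 := by
            rw [← two_mul, zpow_mul, zpow_two, ← pow_two, ← hto, pow_orderOf_eq_one, one_zpow]
          rw [hz, eq_comm, conj_eq_one_iff] at hi
          rw [hi, orderOf_one] at hto
          exact absurd hto (by norm_num)
        · rw [zpow_add, zpow_mul, zpow_two, ← pow_two, ← hto, pow_orderOf_eq_one, one_zpow,
            one_mul, zpow_one, eq_mul_inv_iff_mul_eq] at hi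
          exact hi.symm
      -- so `s` would divide `|C(t)| · |D|`
      have hcardG : Nat.card G ∣ Nat.card (centralizer ({t} : Set G)) * r ^ d := by
        have htop : centralizer ({t} : Set G) ⊔ D = ⊤ := by
          rw [eq_top_iff, ← hsup]
          refine sup_le (hNt.trans le_sup_left) (sup_le le_sup_right ?_)
          exact (zpowers_le_centralizer (mem_zpowers t)).trans le_sup_left
        have h1 := CfsgLib.PGroup.card_sup_dvd_of_normal (centralizer ({t} : Set G)) D
        rwa [htop, Subgroup.card_top, hd] at h1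
      have hCt : Nat.card (centralizer ({t} : Set G)) ∣ 2 * me :=
        h.cent_E_dvd Nat.prime_two (even_iff_two_dvd.1 h.me_even) hto
      have hsd : s ∣ Nat.card G :=
        h.card ▸ dvd_mul_of_dvd_left (dvd_mul_of_dvd_right hsm _) _
      rcases hs.dvd_mul.1 (hsd.trans hcardG) with h1 | h1
      · rcases hs.dvd_mul.1 (h1.trans hCt) with h3 | h3
        · exact h.two_not_mo ((Nat.prime_dvd_prime_iff_eq hs Nat.prime_two).1 h3 ▸ hsm)
        · exact h.not_both hs h3 hsm
      · exact h.p_not_mo ((Nat.prime_dvd_prime_iff_eq hs hr).1 (hs.dvd_of_dvd_pow h1) ▸ hsm)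
    · exact hrmo hmo
  · have hrme : r ∣ me := by
      rcases hr.dvd_mul.1 hd with h2 | h2
      · exact ((Nat.prime_dvd_prime_iff_eq hr Nat.prime_two).1 h2).symm ▸
          even_iff_two_dvd.1 h.me_even
      · exact h2
    by_cases hr2 : r = 2
    · -- a normal elementary abelian `2`-subgroup
      subst hr2
      obtain ⟨w, hw⟩ := h.exE
      -- `|M| ≤ 4`
      have hn2 : n ≤ 2 := by
        obtain ⟨T, hT⟩ := hMr.exists_le_sylow
        have hcy : 2 ^ me.factorization 2 ∣ me := Nat.ordProj_dvd _ _
        set a := w ^ (me / 2 ^ me.factorization 2) with hadef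
        have hao : orderOf a = 2 ^ me.factorization 2 := by
          rw [hadef, ← hw, orderOf_pow_orderOf_div (orderOf_pos w).ne' (hw ▸ (hw.symm ▸ hcy))]
        have hA : IsPGroup 2 (zpowers a) :=
          IsPGroup.of_card (n := me.factorization 2) (by rw [Nat.card_zpowers, hao])
        obtain ⟨T', hT'⟩ := hA.exists_le_sylow
        have hMT' : M ≤ T' := by
          obtain ⟨g, hg⟩ := MulAction.exists_smul_eq G T T'
          intro m hm
          rw [← hg, Sylow.coe_subgroup_smul]
          exact ⟨g⁻¹ * m * g, hT (by simpa using hMn.conj_mem m hm g⁻¹), by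
            show g * (g⁻¹ * m * g) * g⁻¹ = m
            group⟩
        have hTcard : Nat.card (T' : Subgroup G) = 2 ^ (me.factorization 2 + 1) := by
          rw [T'.card_eq_multiplicity, h.card, show q * mo * (2 * me) = q * mo * 2 * me by ring,
            Nat.factorization_mul (Nat.mul_ne_zero (Nat.mul_ne_zero h.q_pos.ne' h.mo_odd.pos.ne')
              two_ne_zero) h.me_pos.ne', Finsupp.add_apply,
            Nat.factorization_mul (Nat.mul_ne_zero h.q_pos.ne' h.mo_odd.pos.ne') two_ne_zero,
            Finsupp.add_apply, Nat.Prime.factorization_self Nat.prime_two,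
            Nat.factorization_eq_zero_of_not_dvd (n := q * mo)]
          · ring_nf
          · intro hd2
            rcases Nat.prime_two.dvd_mul.1 hd2 with h1 | h1
            · exact h.p_ne_two (h.eq_p_of_dvd_q Nat.prime_two h1).symm
            · exact h.two_not_mo h1
        have hsmall : Nat.card ↥(M ⊓ zpowers a) ≤ 2 := by
          have hcyc : IsCyclic ↥(M ⊓ zpowers a) := Subgroup.isCyclic_of_le inf_le_right
          obtain ⟨⟨g₀, hg₀⟩, hgen⟩ := IsCyclic.exists_generator (α := ↥(M ⊓ zpowers a))
          have h1 : Nat.card ↥(M ⊓ zpowers a) = orderOf (⟨g₀, hg₀⟩ : ↥(M ⊓ zpowers a)) :=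
            (orderOf_eq_card_of_forall_mem_zpowers hgen).symm
          rw [h1, orderOf_mk]
          exact Nat.le_of_dvd two_pos (orderOf_dvd_of_pow_eq_one (hexp g₀ hg₀.1))
        have hprod : Nat.card M ≤ 4 := by
          have h1 := card_mul_relIndex' (inf_le_left : M ⊓ zpowers a ≤ M)
          have h2 : (M ⊓ zpowers a).relIndex M ≤ 2 := by
            rw [inf_relIndex_left]
            refine (relIndex_le_of_le_right hMT' index_ne_zero_of_finite).trans (le_of_eq ?_)
            · have h3 := card_mul_relIndex' hT'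
              rw [Nat.card_zpowers, hao, hTcard, pow_succ] at h3
              exact mul_left_cancel₀ (pow_pos two_pos _).ne' h3
          rw [← h1]
          calc _ ≤ 2 * 2 := Nat.mul_le_mul hsmall h2
            _ = 4 := rfl
        rw [hn] at hprod
        exact (Nat.pow_le_pow_iff_right (by norm_num)).1 (hprod.trans (by norm_num : 4 ≤ 2 ^ 2))
      -- an element of order `p` also acts fixed point freely
      haveI := Fact.mk h.prime_p
      obtain ⟨x, hx⟩ := exists_prime_orderOf_dvd_card' (G := G) p (by
        obtain ⟨f, hf, rfl⟩ := h.q_pow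
        rw [h.card]
        exact dvd_mul_of_dvd_left (dvd_mul_of_dvd_left (dvd_pow_self p (by omega)) _) _)
      have hfix2 : ∀ m ∈ M, m * x = x * m → m = 1 := by
        intro m hm hc
        by_contra hne
        have hc' : Commute m x := hc
        have hco : (orderOf m).Coprime (orderOf x) := by
          rw [hzord m hm hne, hx]
          exact (Nat.coprime_primes Nat.prime_two h.prime_p).2 (Ne.symm h.p_ne_two)
        refine h.no_mul_E Nat.prime_two h.prime_p (even_iff_two_dvd.1 h.me_even) ?_ (m * x) ?_
        · obtain ⟨f, hf, rfl⟩ := h.q_pow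
          exact dvd_mul_of_dvd_left (dvd_pow_self p (by omega)) _
        · rw [hc'.orderOf_mul_eq_mul_orderOf_of_coprime hco, hzord m hm hne, hx]
      have d1 := dvd_card_sub_one hx hfix2
      have d2 := dvd_card_sub_one hyo hfix
      have hp2 := h.prime_p.two_le
      have hne : s ≠ p := fun e => h.p_not_mo (e ▸ hsm)
      rw [hn] at d1 d2
      interval_cases n
      · exact absurd rfl hn0
      · exact h.prime_p.not_dvd_one d1
      · exact hne (((Nat.prime_dvd_prime_iff_eq hs Nat.prime_three).1 d2).trans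
          ((Nat.prime_dvd_prime_iff_eq h.prime_p Nat.prime_three).1 d1).symm)
    · -- a normal cyclic subgroup in a torus
      obtain ⟨w, hw⟩ := h.exE
      obtain ⟨P, hMP⟩ := hMr.exists_le_sylow
      obtain ⟨v, hv, hPv⟩ := exists_gen (u := w) (k := q * mo * 2) (by rw [h.card, hw]; ring)
        (h.not_dvd_compl_E hr hr2 hrme) P
      rw [hw] at hv
      obtain ⟨-, hNcard, -, hcent⟩ := h.torus_E hr2 hrme P hv hPv
      have hMeq : M = zpowers z := by
        refine (eq_of_le_of_card_ge (zpowers_le.2 hzM) ?_).symm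
        haveI : IsCyclic M := Subgroup.isCyclic_of_le (hMP.trans hPv)
        obtain ⟨⟨g₀, hg₀⟩, hgen⟩ := IsCyclic.exists_generator (α := M)
        rw [← orderOf_eq_card_of_forall_mem_zpowers hgen, orderOf_mk, Nat.card_zpowers, hzo]
        exact Nat.le_of_dvd hr.pos (orderOf_dvd_of_pow_eq_one (hexp g₀ hg₀))
      have htop : normalizer (zpowers z : Set G) = ⊤ := by
        rw [← hMeq]
        exact normalizer_eq_top_iff.2 hMn
      have h1 : normalizer (zpowers z : Set G) ≤ normalizer ((P : Subgroup G) : Set G) := by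
        refine (normalizer_le_normalizer_centralizer).trans ?_
        rw [hcent z (hMP hzM) hzo]
        exact normalizer_zpowers_le hPv
      have hbig : Nat.card G ≤ 2 * me := by
        rw [← hNcard, ← Subgroup.card_top (G := G), ← htop]
        exact Nat.le_of_dvd Nat.card_pos (card_dvd_of_le h1)
      exact absurd hbig (not_le.2 h.card_gt_two_me)

theorem isSimpleGroup : IsSimpleGroup G where
  exists_pair_ne := by
    obtain ⟨u, hu⟩ := h.exO
    refine ⟨u, 1, fun e => ?_⟩
    rw [e, orderOf_one] at hu
    exact h.one_lt.ne hu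
  eq_bot_or_eq_top_of_normal N hN := by
    haveI := hN
    exact h.eq_bot_or_top N

theorem not_comm : ¬ IsMulCommutative G := by
  intro hc
  obtain ⟨u, hu⟩ := h.exO
  obtain ⟨s, hs, hsm⟩ := Nat.exists_prime_and_dvd h.one_lt.ne'
  have hy : orderOf (u ^ (mo / s)) = s := by
    rw [← hu, orderOf_pow_orderOf_div (orderOf_pos u).ne' (hu ▸ hsm)]
  have hd := h.cent_O_dvd hs hsm hy
  have htop : centralizer ({u ^ (mo / s)} : Set G) = ⊤ :=
    top_unique fun x _ => mem_centralizer_singleton_iff.2 (hc.is_comm.comm _ _)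
  rw [htop, Subgroup.card_top] at hd
  have := Nat.le_of_dvd h.mo_odd.pos hd
  have := h.card_gt_two_mo
  omega

end Data

end CfsgLib.PSLSpectrum
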