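import Cfsg.Agent.Lib.Perm.PSLSpectrum.Basic
import Cfsg.Agent.Lib.PGroup.Basic

/-!
# Centralizers and normalizers of the tori
-/

set_option autoImplicit false

namespace CfsgLib.PSLSpectrum

open Subgroup

variable {G : Type*} [Group G] [Finite G] {p q me mo : ℕ}

namespace Data

variable (h : Data G p q me mo)
include h

theorem me_pos : 0 < me := by
  obtain ⟨u, hu⟩ := h.exE
  exact hu ▸ orderOf_pos u

theorem q_pos : 0 < q := by
  obtain ⟨f, -, rfl⟩ := h.q_pow
  exact pow_pos h.prime_p.pos _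

theorem eq_p_of_dvd_q {s : ℕ} (hs : s.Prime) (hd : s ∣ q) : s = p := by
  obtain ⟨f, -, rfl⟩ := h.q_pow
  exact (Nat.prime_dvd_prime_iff_eq hs h.prime_p).1 (hs.dvd_of_dvd_pow hd)

theorem not_both {s : ℕ} (hs : s.Prime) (h1 : s ∣ me) (h2 : s ∣ mo) : False :=
  hs.not_dvd_one (Nat.eq_one_of_dvd_coprimes h.cop h1 h2 ▸ dvd_rfl)

theorem two_not_mo : ¬ 2 ∣ mo := fun hd => (Nat.not_even_iff_odd.2 h.mo_odd) (even_iff_two_dvd.2 hd)

/-- No element order is divisible by `r s` for `r ∣ mo` and `s` outside `mo`. -/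
theorem no_mul_O {r s : ℕ} (hr : r.Prime) (hs : s.Prime) (hrm : r ∣ mo) (hsm : s ∣ q * (2 * me))
    (g : G) : ¬ r * s ∣ orderOf g := by
  intro hd
  have hsmo : ¬ s ∣ mo := by
    intro h2
    rcases hs.dvd_mul.1 hsm with h1 | h1
    · exact h.p_not_mo (h.eq_p_of_dvd_q hs h1 ▸ h2)
    · rcases hs.dvd_mul.1 h1 with h3 | h3
      · exact h.two_not_mo ((Nat.prime_dvd_prime_iff_eq hs Nat.prime_two).1 h3 ▸ h2)
      · exact h.not_both hs h3 h2
  rcases h.orders g with ho | ho | ho
  · have := (Nat.prime_dvd_prime_iff_eq hr h.prime_p).1 ((dvd_mul_right r s).trans (hd.trans ho))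
    exact h.p_not_mo (this ▸ hrm)
  · exact h.not_both hr ((dvd_mul_right r s).trans (hd.trans ho)) hrm
  · exact hsmo ((dvd_mul_left s r).trans (hd.trans ho))

/-- No element order is divisible by `r s` for `r ∣ me` and `s` outside `me`. -/
theorem no_mul_E {r s : ℕ} (hr : r.Prime) (hs : s.Prime) (hrm : r ∣ me) (hsm : s ∣ q * mo)
    (g : G) : ¬ r * s ∣ orderOf g := by
  intro hd
  have hsme : ¬ s ∣ me := by
    intro h2
    rcases hs.dvd_mul.1 hsm with h1 | h1
    · exact h.p_not_me (h.eq_p_of_dvd_q hs h1 ▸ h2)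
    · exact h.not_both hs h2 h1
  rcases h.orders g with ho | ho | ho
  · have := (Nat.prime_dvd_prime_iff_eq hr h.prime_p).1 ((dvd_mul_right r s).trans (hd.trans ho))
    exact h.p_not_me (this ▸ hrm)
  · exact hsme ((dvd_mul_left s r).trans (hd.trans ho))
  · exact h.not_both hr hrm ((dvd_mul_right r s).trans (hd.trans ho))

omit h in
theorem card_cent_dvd {y : G} {r : ℕ} (hr : r.Prime) (hy : orderOf y = r) {M K : ℕ}
    (hG : Nat.card G = K * M)
    (hK : ∀ s : ℕ, s.Prime → s ∣ K → s ≠ r ∧ ∀ g : G, ¬ r * s ∣ orderOf g) :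
    Nat.card (centralizer ({y} : Set G)) ∣ M := by
  have hd : Nat.card (centralizer ({y} : Set G)) ∣ K * M := hG ▸ card_subgroup_dvd_card _
  refine Nat.Coprime.dvd_of_dvd_mul_left (Nat.coprime_of_dvd fun s hs h1 h2 => ?_) hd
  haveI := Fact.mk hs
  obtain ⟨⟨z, hz⟩, hzo⟩ := exists_prime_orderOf_dvd_card' (G := centralizer ({y} : Set G)) s h1
  rw [orderOf_mk] at hzo
  have hc : Commute y z := (mem_centralizer_singleton_iff.1 hz).symm
  have hco : (orderOf y).Coprime (orderOf z) := by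
    rw [hy, hzo]
    exact (Nat.coprime_primes hr hs).2 (fun h => (hK s hs h2).1 h.symm)
  refine (hK s hs h2).2 (y * z) ?_
  rw [hc.orderOf_mul_eq_mul_orderOf_of_coprime hco, hy, hzo]

theorem cent_O_dvd {y : G} {r : ℕ} (hr : r.Prime) (hrm : r ∣ mo) (hy : orderOf y = r) :
    Nat.card (centralizer ({y} : Set G)) ∣ mo := by
  refine card_cent_dvd hr hy (K := q * (2 * me)) (by rw [h.card]; ring) fun s hs hsd => ?_
  refine ⟨fun e => ?_, h.no_mul_O hr hs hrm hsd⟩
  subst e
  rcases hs.dvd_mul.1 hsd with h1 | h1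
  · exact h.p_not_mo (h.eq_p_of_dvd_q hs h1 ▸ hrm)
  · rcases hs.dvd_mul.1 h1 with h3 | h3
    · exact h.two_not_mo ((Nat.prime_dvd_prime_iff_eq hs Nat.prime_two).1 h3 ▸ hrm)
    · exact h.not_both hs h3 hrm

theorem cent_E_dvd {y : G} {r : ℕ} (hr : r.Prime) (hrm : r ∣ me) (hy : orderOf y = r) :
    Nat.card (centralizer ({y} : Set G)) ∣ 2 * me := by
  refine card_cent_dvd hr hy (K := q * mo) h.card fun s hs hsd => ?_
  refine ⟨fun e => ?_, h.no_mul_E hr hs hrm hsd⟩
  subst e
  rcases hs.dvd_mul.1 hsd with h1 | h1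
  · exact h.p_not_me (h.eq_p_of_dvd_q hs h1 ▸ hrm)
  · exact h.not_both hs hrm h1

theorem cent_eq_O {y v : G} {r : ℕ} (hr : r.Prime) (hrm : r ∣ mo) (hv : orderOf v = mo)
    (hy : orderOf y = r) (hyv : y ∈ zpowers v) : centralizer ({y} : Set G) = zpowers v := by
  refine (eq_of_le_of_card_ge (zpowers_le_centralizer hyv) ?_).symm
  rw [Nat.card_zpowers, hv]
  exact Nat.le_of_dvd h.mo_odd.pos (h.cent_O_dvd hr hrm hy)

theorem not_dvd_compl_O {r : ℕ} (hr : r.Prime) (hrm : r ∣ mo) : ¬ r ∣ q * (2 * me) := by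
  intro hd
  rcases hr.dvd_mul.1 hd with h1 | h1
  · exact h.p_not_mo (h.eq_p_of_dvd_q hr h1 ▸ hrm)
  · rcases hr.dvd_mul.1 h1 with h3 | h3
    · exact h.two_not_mo ((Nat.prime_dvd_prime_iff_eq hr Nat.prime_two).1 h3 ▸ hrm)
    · exact h.not_both hr h3 hrm

theorem not_dvd_compl_E {r : ℕ} (hr : r.Prime) (hr2 : r ≠ 2) (hrm : r ∣ me) :
    ¬ r ∣ q * mo * 2 := by
  intro hd
  rcases hr.dvd_mul.1 hd with h1 | h1
  · rcases hr.dvd_mul.1 h1 with h3 | h3
    · exact h.p_not_me (h.eq_p_of_dvd_q hr h3 ▸ hrm)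
    · exact h.not_both hr hrm h3
  · exact hr2 ((Nat.prime_dvd_prime_iff_eq hr Nat.prime_two).1 h1)

/-- The whole package for an odd prime of `mo`. -/
theorem torus_O {r : ℕ} [hrF : Fact r.Prime] (hrm : r ∣ mo) (P : Sylow r G) {v : G}
    (hv : orderOf v = mo) (hP : (P : Subgroup G) ≤ zpowers v) :
    centralizer ((P : Subgroup G) : Set G) = zpowers v ∧
      Nat.card (normalizer ((P : Subgroup G) : Set G)) = 2 * mo ∧
      ∀ w ∈ normalizer ((P : Subgroup G) : Set G), w ∉ zpowers v →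
        ∀ a ∈ (P : Subgroup G), w * a * w⁻¹ = a⁻¹ := by
  have hr := hrF.out
  have hr2 : r ≠ 2 := fun e => h.two_not_mo (e ▸ hrm)
  have hrP : r ∣ Nat.card (P : Subgroup G) :=
    P.dvd_card_of_dvd_card (h.card ▸ dvd_mul_of_dvd_left (dvd_mul_of_dvd_right hrm _) _)
  obtain ⟨⟨y, hyP⟩, hyo⟩ := exists_prime_orderOf_dvd_card' (G := (P : Subgroup G)) r hrP
  rw [orderOf_mk] at hyo
  have hC : centralizer ((P : Subgroup G) : Set G) = zpowers v := by
    refine le_antisymm ?_ (zpowers_le_centralizer' hP)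
    rw [← h.cent_eq_O hr hrm hv hyo (hP hyP)]
    exact centralizer_le (Set.singleton_subset_iff.2 hyP)
  have hcyc : IsCyclic (P : Subgroup G) := Subgroup.isCyclic_of_le hP
  obtain ⟨e, hN, he, hmod, hrel⟩ := normalizer_index P hcyc (k := q * (2 * me)) (c := mo)
    (by rw [h.card]; ring) (by rw [hC, Nat.card_zpowers, hv])
  have h3 : 3 ≤ r := by
    have := hr.two_le
    omega
  have helt : e < r := (Nat.le_of_dvd (by omega) he).trans_lt (by omega)
  have he2 : e = 2 :=
    Nat.ModEq.eq_of_lt_of_lt (hmod.symm.trans (h.congO.of_dvd hrm)) helt (by omega)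
  subst he2
  refine ⟨hC, hN, fun w hw hwv => ?_⟩
  haveI := hcyc
  have hidx : ((centralizer ((P : Subgroup G) : Set G)).subgroupOf
      (normalizer ((P : Subgroup G) : Set G))).index = 2 := hrel
  refine inverts_of_sq hr2 P.2 hw (fun hc => hwv (hC ▸ hc)) ?_
  exact mem_subgroupOf.1 (mul_self_mem_of_index_two hidx ⟨w, hw⟩)

theorem sylow_normalizer_O {r : ℕ} [hrF : Fact r.Prime] (hrm : r ∣ mo) (P : Sylow r G) :
    Nat.card (normalizer ((P : Subgroup G) : Set G)) = 2 * mo := by
  obtain ⟨u, hu⟩ := h.exO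
  obtain ⟨v, hv, hP⟩ := exists_gen (u := u) (k := q * (2 * me)) (by rw [h.card, hu]; ring)
    (h.not_dvd_compl_O hrF.out hrm) P
  exact (h.torus_O hrm P (hv.trans hu) hP).2.1

/-- The whole package for an odd prime of `me`. -/
theorem torus_E {r : ℕ} [hrF : Fact r.Prime] (hr2 : r ≠ 2) (hrm : r ∣ me) (P : Sylow r G) {v : G}
    (hv : orderOf v = me) (hP : (P : Subgroup G) ≤ zpowers v) :
    centralizer ((P : Subgroup G) : Set G) = zpowers v ∧
      Nat.card (normalizer ((P : Subgroup G) : Set G)) = 2 * me ∧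
      (∀ w ∈ normalizer ((P : Subgroup G) : Set G), w ∉ zpowers v →
        ∀ a ∈ (P : Subgroup G), w * a * w⁻¹ = a⁻¹) ∧
      ∀ y ∈ (P : Subgroup G), orderOf y = r → centralizer ({y} : Set G) = zpowers v := by
  have hr := hrF.out
  have h3 : 3 ≤ r := by
    have := hr.two_le
    omega
  have hcyc : IsCyclic (P : Subgroup G) := Subgroup.isCyclic_of_le hP
  haveI := hcyc
  set C := centralizer ((P : Subgroup G) : Set G) with hCdef
  have hvC : zpowers v ≤ C := zpowers_le_centralizer' hP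
  have hrP : r ∣ Nat.card (P : Subgroup G) :=
    P.dvd_card_of_dvd_card (h.card ▸ dvd_mul_of_dvd_right (dvd_mul_of_dvd_right hrm _) _)
  obtain ⟨⟨y₀, hy₀P⟩, hy₀o⟩ := exists_prime_orderOf_dvd_card' (G := (P : Subgroup G)) r hrP
  rw [orderOf_mk] at hy₀o
  have hCd : Nat.card C ∣ 2 * me :=
    (card_dvd_of_le (centralizer_le (Set.singleton_subset_iff.2 hy₀P))).trans
      (h.cent_E_dvd hr hrm hy₀o)
  have hmC : me ∣ Nat.card C := by
    rw [← hv, ← Nat.card_zpowers]
    exact card_dvd_of_le hvC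
  -- `|C| = me` or `2 me`
  obtain ⟨c, hc⟩ := hmC
  have hc12 : c = 1 ∨ c = 2 := by
    rw [hc, mul_comm 2 me] at hCd
    exact (Nat.dvd_prime Nat.prime_two).1 (Nat.dvd_of_mul_dvd_mul_left h.me_pos hCd)
  rcases hc12 with rfl | rfl
  · rw [mul_one] at hc
    have hC : C = zpowers v :=
      (eq_of_le_of_card_ge hvC (by rw [hc, Nat.card_zpowers, hv])).symm
    obtain ⟨e, hN, he, hmod, hrel⟩ := normalizer_index P hcyc (k := q * mo * 2) (c := me)
      (by rw [h.card]; ring) hc
    have helt : e < r := (Nat.le_of_dvd (by omega) he).trans_lt (by omega)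
    have he2 : e = 2 := by
      have h1 : q * mo * 2 ≡ 2 [MOD r] := by simpa using (h.congE.of_dvd hrm).mul_right 2
      exact Nat.ModEq.eq_of_lt_of_lt (hmod.symm.trans h1) helt (by omega)
    subst he2
    have hidx : (C.subgroupOf (normalizer ((P : Subgroup G) : Set G))).index = 2 := hrel
    have hinv : ∀ w ∈ normalizer ((P : Subgroup G) : Set G), w ∉ zpowers v →
        ∀ a ∈ (P : Subgroup G), w * a * w⁻¹ = a⁻¹ := by
      intro w hw hwv
      refine inverts_of_sq hr2 P.2 hw (fun h' => hwv (hC ▸ h')) ?_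
      exact mem_subgroupOf.1 (mul_self_mem_of_index_two hidx ⟨w, hw⟩)
    refine ⟨hC, hN, hinv, fun y hy hyo => ?_⟩
    have hd := h.cent_E_dvd hr hrm hyo
    have hle := zpowers_le_centralizer (hP hy)
    refine le_antisymm (fun z hz => ?_) hle
    by_contra hzv
    have hzN : z ∈ normalizer ((P : Subgroup G) : Set G) := by
      refine normalizer_zpowers_le hP ?_
      -- `⟨v⟩` has index at most two in `C(y)`
      haveI : ((zpowers v).subgroupOf (centralizer ({y} : Set G))).Normal := by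
        have hrel' := card_mul_relIndex' hle
        rw [Nat.card_zpowers, hv] at hrel'
        have hd' : (zpowers v).relIndex (centralizer ({y} : Set G)) ∣ 2 := by
          rw [← hrel', mul_comm 2 me] at hd
          exact Nat.dvd_of_mul_dvd_mul_left h.me_pos hd
        rcases (Nat.dvd_prime Nat.prime_two).1 hd' with h1 | h2
        · rw [relIndex, index_eq_one] at h1
          rw [h1]; infer_instance
        · exact normal_of_index_eq_two h2
      exact (normal_subgroupOf_iff_le_normalizer hle).1 inferInstance hz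
    have h1 := hinv z hzN hzv y hy
    have h2 : z * y * z⁻¹ = y := by
      rw [mem_centralizer_singleton_iff.1 hz, mul_inv_cancel_right]
    have h3' : y * y = 1 := by rw [← mul_inv_cancel y, ← h1, h2]
    have h4 : r ∣ 2 := hyo ▸ orderOf_dvd_of_pow_eq_one ((pow_two y).trans h3')
    exact hr2 ((Nat.prime_dvd_prime_iff_eq hr Nat.prime_two).1 h4)
  · -- then `N(P) = C(P)`, a normal `r`-complement, against a prime of `mo`
    exfalso
    obtain ⟨e, hN, he, hmod, hrel⟩ := normalizer_index P hcyc (k := q * mo) (c := me * 2)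
      (by rw [h.card]; ring) hc
    have helt : e < r := (Nat.le_of_dvd (by omega) he).trans_lt (by omega)
    have he1 : e = 1 :=
      Nat.ModEq.eq_of_lt_of_lt (hmod.symm.trans (h.congE.of_dvd hrm)) helt (by omega)
    subst he1
    obtain ⟨P', M, hMn, hM⟩ :=
      CfsgLib.Fusion.hasNormalPComplement_of_normalizer_le_centralizer P (relIndex_eq_one.1 hrel)
    haveI := hMn
    obtain ⟨s, hs, hsm⟩ := Nat.exists_prime_and_dvd h.one_lt.ne'
    haveI := Fact.mk hs
    have hsr : s ≠ r := fun e => h.not_both hr hrm (e ▸ hsm)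
    have hidx : M.index = Nat.card (P' : Subgroup G) := hM.symm.index_eq_card
    obtain ⟨j, hj⟩ := P'.2.exists_card_eq
    have hsidx : ¬ s ∣ M.index := by
      rw [hidx, hj]
      intro hd
      exact hsr ((Nat.prime_dvd_prime_iff_eq hs hr).1 (hs.dvd_of_dvd_pow hd))
    obtain ⟨Q⟩ : Nonempty (Sylow s M) := inferInstance
    have hQcard : Nat.card ((Q : Subgroup M).map M.subtype) =
        s ^ (Nat.card G).factorization s := by
      rw [card_map_of_injective M.subtype_injective, Q.card_eq_multiplicity, ← card_mul_index M,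
        Nat.factorization_mul Nat.card_pos.ne' index_ne_zero_of_finite, Finsupp.add_apply,
        Nat.factorization_eq_zero_of_not_dvd hsidx, add_zero]
    have hsup := Sylow.normalizer_sup_eq_top Q
    have hN2 := h.sylow_normalizer_O hsm (Sylow.ofCard _ hQcard)
    rw [Sylow.coe_ofCard] at hN2
    -- the index of `M` divides `|N(Q)| = 2 mo`
    have hdiv : M.index ∣ 2 * mo := by
      rw [← hN2]
      have h1 : M.relIndex (normalizer (((Q : Subgroup M).map M.subtype : Subgroup G) : Set G)) =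
          M.index := by
        rw [← relIndex_sup_right, hsup, relIndex_top_right]
      rw [← h1]
      exact index_dvd_card _
    have hrM : r ∣ M.index := by
      rw [hidx]
      exact P'.dvd_card_of_dvd_card
        (h.card ▸ dvd_mul_of_dvd_right (dvd_mul_of_dvd_right hrm _) _)
    rcases hr.dvd_mul.1 (hrM.trans hdiv) with h1 | h1
    · exact hr2 ((Nat.prime_dvd_prime_iff_eq hr Nat.prime_two).1 h1)
    · exact h.not_both hr hrm h1

end Data

end CfsgLib.PSLSpectrum
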